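import Mathlib.CategoryTheory.Monoidal.Cartesian.Grp

/-!
# Commutativity of group objects passes to subobjects and quotients
-/

set_option autoImplicit false

universe v u

open CategoryTheory MonoidalCategory CartesianMonoidalCategory MonObj GrpObj

namespace Groth.Agent.Sga3.H830.CommAux

variable {C : Type u} [Category.{v} C] [CartesianMonoidalCategory C] [BraidedCategory C]

/-- A subgroup object of a commutative group object is commutative. -/
theorem isCommMonObj_of_mono {K G : C} [MonObj K] [MonObj G] [IsCommMonObj G] (i : K ⟶ G) [Mono i]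
    [IsMonHom i] : IsCommMonObj K where
  mul_comm := by
    rw [← cancel_mono i, Category.assoc, IsMonHom.mul_hom, ← BraidedCategory.braiding_naturality_assoc,
      IsCommMonObj.mul_comm]

/-- A quotient of a commutative group object is commutative. -/
theorem isCommMonObj_of_epi {G Q : C} [MonObj G] [MonObj Q] [IsCommMonObj G] (p : G ⟶ Q) [Epi (p ⊗ₘ p)]
    [IsMonHom p] : IsCommMonObj Q where
  mul_comm := by
    rw [← cancel_epi (p ⊗ₘ p), ← IsMonHom.mul_hom, BraidedCategory.braiding_naturality_assoc,
      ← IsMonHom.mul_hom, IsCommMonObj.mul_comm_assoc]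

/-- A morphism out of a quotient is a homomorphism if its composite with the projection is. -/
theorem isMonHom_of_epi {G Q Z : C} [MonObj G] [MonObj Q] [MonObj Z] (p : G ⟶ Q) [Epi (p ⊗ₘ p)]
    [IsMonHom p] (g : Q ⟶ Z) [IsMonHom (p ≫ g)] : IsMonHom g where
  one_hom := by
    rw [← IsMonHom.one_hom p, Category.assoc, IsMonHom.one_hom (p ≫ g)]
  mul_hom := by
    rw [← cancel_epi (p ⊗ₘ p), ← Category.assoc, ← IsMonHom.mul_hom, Category.assoc,
      IsMonHom.mul_hom (p ≫ g), ← Category.assoc, tensorHom_comp_tensorHom]

end Groth.Agent.Sga3.H830.CommAux
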