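import Groth.Agent.Sga3B.MT.MemOps
import Groth.Prelude.Def_SGA3x

/-!
# The scheme of maximal tori through its points

`(𝒯, Tu, iu)` represents the functor of maximal tori of `G` (`SGA3x.RepresentsMaxTori`).  For `v : X ⟶ 𝒯` let
`D iu v` be the set of the `X`-points of `G` which lie in the maximal torus attached to `v`.

* `exists_cls`: every maximal torus of `G_X` is classified by a point `X ⟶ 𝒯`;
* `exists_torus`: the converse; `ext`: a point is determined by the sets `D`;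
* `conj`, `mem_D_conj`: conjugation by points of `G`.
-/

set_option autoImplicit false
universe u
open CategoryTheory MonoidalCategory CartesianMonoidalCategory MonObj GrpObj AlgebraicGeometry Limits

namespace Groth.Agent.Sga3.H830.MTPts

open Groth.Agent.Sga3B Groth.Agent.Sga3B.MT

variable {S : Scheme.{u}} {G : Over S} [GrpObj G]

/-- The points of `G` which lie in the subgroup parametrised by `v`. -/
def D {𝒯 : Over S} {Tu : Over 𝒯.left} (iu : Tu ⟶ Red.bc 𝒯.hom G) {X : Over S} (v : X ⟶ 𝒯) : Set (X ⟶ G) :=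
  {g | MemAt (f := 𝒯.hom) iu v g}

omit [GrpObj G] in
lemma mem_D {𝒯 : Over S} {Tu : Over 𝒯.left} (iu : Tu ⟶ Red.bc 𝒯.hom G) {X : Over S} (v : X ⟶ 𝒯) (g : X ⟶ G) :
    g ∈ D iu v ↔ MemAt (f := 𝒯.hom) iu v g := Iff.rfl

omit [GrpObj G] in
/-- The comparison in the definition of `RepresentsMaxTori` in terms of points. -/
theorem exists_iso_iff {𝒯 : Over S} {Tu : Over 𝒯.left} (iu : Tu ⟶ Red.bc 𝒯.hom G)
    [Mono iu] {X : Over S} {T' : Over X.left} (i' : T' ⟶ Red.bc X.hom G) [Mono i'] (v : X ⟶ 𝒯) :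
    (∃ φ : T'.left ≅ (Red.bc v.left Tu).left,
        φ.hom ≫ (Red.bc v.left Tu).hom = T'.hom ∧
        φ.hom ≫ ((Over.pullback v.left).map iu).left ≫ pullback.fst (Red.bc 𝒯.hom G).hom v.left ≫
          pullback.fst G.hom 𝒯.hom = i'.left ≫ pullback.fst G.hom X.hom) ↔
      ∀ (Y : Over S) (y : Y ⟶ X) (g : Y ⟶ G), MemAt (f := X.hom) i' y g ↔ g ∈ D iu (y ≫ v) := by
  have hm : Mono iu.left := inferInstance
  have hm' : Mono i'.left := inferInstance
  have h0 : ((Over.pullback v.left).map iu).left ≫ pullback.fst (Red.bc 𝒯.hom G).hom v.left =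
      pullback.fst Tu.hom v.left ≫ iu.left :=
    (Groth.Agent.Sga3B.Parab.EtHom.isPullback_map v.left iu).w.symm
  have h0' : ((Over.pullback v.left).map iu).left ≫ pullback.fst (Red.bc 𝒯.hom G).hom v.left ≫
      pullback.fst G.hom 𝒯.hom = pullback.fst Tu.hom v.left ≫ iu.left ≫ pullback.fst G.hom 𝒯.hom := by
    rw [reassoc_of% h0]
  constructor
  · rintro ⟨φ, h1, h2⟩ Y y g
    rw [mem_D, memAt_iff', memAt_iff']
    rw [h0'] at h2
    constructor
    · rintro ⟨x, hx1, hx2⟩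
      refine ⟨x ≫ φ.hom ≫ pullback.fst Tu.hom v.left, ?_, ?_⟩
      · rw [Category.assoc, Category.assoc, pullback.condition]
        change x ≫ φ.hom ≫ (Red.bc v.left Tu).hom ≫ v.left = (y ≫ v).left
        rw [← Category.assoc φ.hom, h1, ← Category.assoc, hx1, Over.comp_left]
      · rw [← hx2, ← h2]
        simp only [Category.assoc]
    · rintro ⟨x, hx1, hx2⟩
      refine ⟨pullback.lift x y.left (hx1.trans (Over.comp_left _ _ _ _ _)) ≫ φ.inv, ?_, ?_⟩
      · rw [Category.assoc, ← h1, Iso.inv_hom_id_assoc]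
        exact pullback.lift_snd _ _ _
      · rw [Category.assoc, ← h2, Iso.inv_hom_id_assoc, pullback.lift_fst_assoc, hx2]
  · intro H
    -- the tautological point of `T'`
    obtain ⟨a, ha1, ha2⟩ : ∃ a : T'.left ⟶ Tu.left, a ≫ Tu.hom = T'.hom ≫ v.left ∧
        a ≫ iu.left ≫ pullback.fst G.hom 𝒯.hom = i'.left ≫ pullback.fst G.hom X.hom := by
      let Y : Over S := Over.mk (T'.hom ≫ X.hom)
      let y : Y ⟶ X := Over.homMk T'.hom rfl
      have hw : i'.left ≫ pullback.snd G.hom X.hom = T'.hom := Over.w i'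
      let g : Y ⟶ G := Over.homMk (i'.left ≫ pullback.fst G.hom X.hom) (by
        rw [Category.assoc, pullback.condition, ← Category.assoc, hw]; rfl)
      have h1 : MemAt (f := X.hom) i' y g := (memAt_iff' _ _ _).2 ⟨𝟙 _, Category.id_comp _, Category.id_comp _⟩
      obtain ⟨a, h2, h3⟩ := (memAt_iff' _ _ _).1 ((mem_D iu _ _).1 ((H Y y g).1 h1))
      exact ⟨a, h2.trans (Over.comp_left _ _ _ _ _), h3⟩
    obtain ⟨b, hb1, hb2⟩ : ∃ b : pullback Tu.hom v.left ⟶ T'.left, b ≫ T'.hom = pullback.snd Tu.hom v.left ∧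
        b ≫ i'.left ≫ pullback.fst G.hom X.hom =
          pullback.fst Tu.hom v.left ≫ iu.left ≫ pullback.fst G.hom 𝒯.hom := by
      let Y : Over S := Over.mk (pullback.snd Tu.hom v.left ≫ X.hom)
      let y : Y ⟶ X := Over.homMk (pullback.snd Tu.hom v.left) rfl
      have hw : iu.left ≫ pullback.snd G.hom 𝒯.hom = Tu.hom := Over.w iu
      let g : Y ⟶ G := Over.homMk (pullback.fst Tu.hom v.left ≫ iu.left ≫ pullback.fst G.hom 𝒯.hom) (by
        rw [Category.assoc, Category.assoc, pullback.condition, reassoc_of% hw, pullback.condition_assoc,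
          Over.w v]; rfl)
      have h1 : MemAt (f := 𝒯.hom) iu (y ≫ v) g := (memAt_iff' _ _ _).2
        ⟨pullback.fst _ _, by rw [pullback.condition]; rfl, rfl⟩
      obtain ⟨b, h2, h3⟩ := (memAt_iff' _ _ _).1 ((H Y y g).2 h1)
      exact ⟨b, h2, h3⟩
    have hw : i'.left ≫ pullback.snd G.hom X.hom = T'.hom := Over.w i'
    have hwu : iu.left ≫ pullback.snd G.hom 𝒯.hom = Tu.hom := Over.w iu
    let a' : T'.left ⟶ pullback Tu.hom v.left := pullback.lift a T'.hom ha1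
    have e1 : a' ≫ pullback.fst Tu.hom v.left = a := pullback.lift_fst _ _ _
    have e2 : a' ≫ pullback.snd Tu.hom v.left = T'.hom := pullback.lift_snd _ _ _
    have hab : a' ≫ b = 𝟙 _ := by
      rw [← cancel_mono i'.left]
      apply pullback.hom_ext
      · simp only [Category.assoc, Category.id_comp]
        rw [hb2, reassoc_of% e1, ha2]
      · simp only [Category.assoc, Category.id_comp]
        rw [hw, hb1, e2]
    have hba : b ≫ a' = 𝟙 _ := by
      apply pullback.hom_ext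
      · rw [← cancel_mono iu.left]
        apply pullback.hom_ext
        · simp only [Category.assoc, Category.id_comp]
          rw [reassoc_of% e1, ha2, hb2]
        · simp only [Category.assoc, Category.id_comp]
          rw [hwu, reassoc_of% e1, ha1, reassoc_of% hb1, pullback.condition]
      · simp only [Category.assoc, Category.id_comp]
        rw [e2, hb1]
    refine ⟨⟨a', b, hab, hba⟩, pullback.lift_snd _ _ _, ?_⟩
    rw [h0']
    exact (pullback.lift_fst_assoc _ _ _ _).trans ha2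

section Rep

variable {𝒯 : Over S} {Tu : Over 𝒯.left} [GrpObj Tu] {iu : Tu ⟶ Red.bc 𝒯.hom G}

/-- The defining property, in terms of points. -/
theorem existsUnique_cls (h𝒯 : SGA3x.RepresentsMaxTori G 𝒯 Tu iu) {X : Over S} {T' : Over X.left} [GrpObj T']
    (i' : T' ⟶ Red.bc X.hom G) (hi' : Red.IsMaximalTorus i') :
    ∃! v : X ⟶ 𝒯, ∀ (Y : Over S) (y : Y ⟶ X) (g : Y ⟶ G), MemAt (f := X.hom) i' y g ↔ g ∈ D iu (y ≫ v) := by
  have := h𝒯.1.2.1
  have := hi'.2.1
  obtain ⟨v, ⟨hv1, hv2⟩, hv3⟩ := h𝒯.2 X.left X.hom T' i' hi'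
  refine ⟨Over.homMk v hv1, (exists_iso_iff iu i' (Over.homMk v hv1)).1 hv2, ?_⟩
  intro w hw
  ext1
  exact hv3 w.left ⟨Over.w w, (exists_iso_iff iu i' w).2 hw⟩

theorem exists_cls (h𝒯 : SGA3x.RepresentsMaxTori G 𝒯 Tu iu) {X : Over S} {T' : Over X.left} [GrpObj T']
    (i' : T' ⟶ Red.bc X.hom G) (hi' : Red.IsMaximalTorus i') :
    ∃ v : X ⟶ 𝒯, ∀ (Y : Over S) (y : Y ⟶ X) (g : Y ⟶ G), MemAt (f := X.hom) i' y g ↔ g ∈ D iu (y ≫ v) :=
  (existsUnique_cls h𝒯 i' hi').exists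

variable (G) in
/-- Stability of the maximal tori of the base changes of `G` under base change. -/
def TorBc : Prop := ∀ {S' S'' : Scheme.{u}} (q : S'' ⟶ S') {f : S' ⟶ S} {H : Over S'} [GrpObj H]
  {h : H ⟶ Red.bc f G}, Red.IsMaximalTorus h → Red.IsMaximalTorus (bcSub q h)

lemma exists_torus_aux {S' : Scheme.{u}} {f f' : S' ⟶ S} (e : f' = f) {H : Over S'} [GrpObj H]
    {h : H ⟶ Red.bc f G} (hh : Red.IsMaximalTorus h) : ∃ (h' : H ⟶ Red.bc f' G), Red.IsMaximalTorus h' ∧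
      ∀ (Y : Over S) (y : Y ⟶ Over.mk f) (y' : Y ⟶ Over.mk f') (g : Y ⟶ G), y.left = y'.left →
        (MemAt h' y' g ↔ MemAt h y g) := by
  subst e
  refine ⟨h, hh, fun Y y y' g e => ?_⟩
  have : y' = y := by
    ext1
    exact e.symm
  rw [this]

/-- Every point of `𝒯` comes from a maximal torus. -/
theorem exists_torus (hbc : TorBc G) (h𝒯 : SGA3x.RepresentsMaxTori G 𝒯 Tu iu) {X : Over S} (v : X ⟶ 𝒯) :
    ∃ (T' : Over X.left) (_ : GrpObj T') (i' : T' ⟶ Red.bc X.hom G), Red.IsMaximalTorus i' ∧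
      ∀ (Y : Over S) (y : Y ⟶ X) (g : Y ⟶ G), MemAt (f := X.hom) i' y g ↔ g ∈ D iu (y ≫ v) := by
  have h1 := hbc v.left h𝒯.1
  obtain ⟨i', hi', h2⟩ := exists_torus_aux (Over.w v).symm h1
  refine ⟨Red.bc v.left Tu, inferInstance, i', hi', fun Y y g => ?_⟩
  have e : y.left ≫ v.left ≫ 𝒯.hom = Y.hom := by rw [Over.w v, Over.w y]
  rw [h2 Y (Over.homMk y.left e) y g rfl, memAt_bcSub, mem_D]
  have e2 : (Over.homMk y.left e : Y ⟶ Over.mk (v.left ≫ 𝒯.hom)) ≫ ovq v.left 𝒯.hom = y ≫ v := by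
    ext1
    rfl
  rw [e2]

/-- Points of `𝒯` are determined by the sets `D`. -/
theorem ext (hbc : TorBc G) (h𝒯 : SGA3x.RepresentsMaxTori G 𝒯 Tu iu) {X : Over S} (v w : X ⟶ 𝒯)
    (h : ∀ (Y : Over S) (y : Y ⟶ X), D iu (y ≫ v) = D iu (y ≫ w)) : v = w := by
  obtain ⟨T', _, i', hi', h1⟩ := exists_torus hbc h𝒯 v
  refine (existsUnique_cls h𝒯 i' hi').unique h1 fun Y y g => ?_
  rw [h1, h]

section Conj

variable (iu) in
/-- `w` is the conjugate of `v` by `g`. -/
def IsConj {X : Over S} (g : X ⟶ G) (v w : X ⟶ 𝒯) : Prop :=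
  ∀ (Y : Over S) (y : Y ⟶ X) (h : Y ⟶ G), h ∈ D iu (y ≫ w) ↔ (y ≫ g)⁻¹ * h * (y ≫ g) ∈ D iu (y ≫ v)

/-- Conjugates exist. -/
theorem exists_conj (hbc : TorBc G) (h𝒯 : SGA3x.RepresentsMaxTori G 𝒯 Tu iu) {X : Over S} (g : X ⟶ G)
    (v : X ⟶ 𝒯) : ∃ w : X ⟶ 𝒯, IsConj iu g v w := by
  obtain ⟨T', _, i', hi', h1⟩ := exists_torus hbc h𝒯 v
  have h2 := isMaximalTorus_comp_cj (f := X.hom) (G := G) g i' hi'
  obtain ⟨w, hw⟩ := exists_cls h𝒯 _ h2
  refine ⟨w, fun Y y h => ?_⟩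
  rw [← hw, memAt_comp_cj]
  exact h1 _ _ _

omit [GrpObj Tu] in
lemma IsConj.comp {X X' : Over S} {g : X ⟶ G} {v w : X ⟶ 𝒯} (h : IsConj iu g v w) (x : X' ⟶ X) :
    IsConj iu (x ≫ g) (x ≫ v) (x ≫ w) := by
  intro Y y c
  have := h Y (y ≫ x) c
  simpa only [Category.assoc] using this

omit [GrpObj Tu] in
lemma IsConj.mul {X : Over S} {g g' : X ⟶ G} {v w w' : X ⟶ 𝒯} (h : IsConj iu g v w) (h' : IsConj iu g' w w') :
    IsConj iu (g' * g) v w' := by
  intro Y y c
  rw [h' Y y c, h Y y _, MonObj.comp_mul]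
  congr! 1
  group

omit [GrpObj Tu] in
lemma isConj_one {X : Over S} (v : X ⟶ 𝒯) : IsConj iu (1 : X ⟶ G) v v := by
  intro Y y c
  rw [MonObj.comp_one]
  congr! 1
  group

theorem IsConj.eq (hbc : TorBc G) (h𝒯 : SGA3x.RepresentsMaxTori G 𝒯 Tu iu) {X : Over S} {g : X ⟶ G}
    {v w w' : X ⟶ 𝒯} (h : IsConj iu g v w) (h' : IsConj iu g v w') : w = w' := by
  refine ext hbc h𝒯 _ _ fun Y y => ?_
  ext c
  rw [h Y y c, h' Y y c]

end Conj

end Rep

end Groth.Agent.Sga3.H830.MTPts
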