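import Groth.Agent.Sga3.H784.NAMain
import Groth.Agent.Sga3B.MaxTorBc505
import Groth.Agent.Sga3.H830.MTPts

/-!
# Maximal tori are stable under arbitrary base change

`G` locally of finite type over any scheme `S`, `i : T ⟶ G` a maximal torus, `f : S' ⟶ S`: the base change of `i`
along `f` is a maximal torus.
-/

set_option autoImplicit false
universe u
open CategoryTheory MonoidalCategory CartesianMonoidalCategory MonObj GrpObj AlgebraicGeometry Limits

namespace Groth.Agent.Sga3.H830.TorBc

open Groth.Agent.Sga3B Groth.Agent.Sga3B.AlgBc Groth.Agent.Sga3B.TorusBc Groth.Agent.Sga3B.RedIso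
  Groth.Agent.Sga3B.BcNat

variable {S : Scheme.{u}} {T G : Over S} [GrpObj T] [GrpObj G]

/-- The geometric fibres of a maximal torus, over all algebraically closed fields. -/
theorem isMaxTorOver_geom [LocallyOfFiniteType G.hom] {i : T ⟶ G} (hi : Red.IsMaximalTorus i) {L : Type u} [Field L]
    [IsAlgClosed L] (y : Spec (CommRingCat.of L) ⟶ S) : IsMaxTorOver ((Over.pullback y).map i) := by
  obtain ⟨s, θ, rfl⟩ := MaxTorBc505.exists_factor_geomPt y
  have hi1 := hi.1
  have h1 : Red.IsMaximalTorus ((Over.pullback (Red.geomPt s)).map i) := AlgBc.isMaximalTorus_bc (Red.geomPt s) hi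
  have hlft : LocallyOfFiniteType (Red.bc (Red.geomPt s) G).hom :=
    inferInstanceAs (LocallyOfFiniteType (pullback.snd G.hom (Red.geomPt s)))
  have h2 : Red.IsMaximalTorus ((Over.pullback θ).map ((Over.pullback (Red.geomPt s)).map i)) :=
    (H784.NAMain.isMaximalTorus_pullback_iff θ _ h1.1 h1.2.2.1).2 h1
  have h3 : IsMaxTorOver ((Over.pullback θ).map ((Over.pullback (Red.geomPt s)).map i)) :=
    ((RG.BrMax.isMaximalTorus_iff_abs _).1 h2).2.2.2
  exact isMaxTorOver_of_arrow (BcIso.bcCompIso θ (Red.geomPt s) T).symm (BcIso.bcCompIso θ (Red.geomPt s) G).symm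
    (comp_nat_inv θ (Red.geomPt s) i).symm h3

/-- **Maximal tori are stable under arbitrary base change.** -/
theorem isMaximalTorus_bc [LocallyOfFiniteType G.hom] {S' : Scheme.{u}} (f : S' ⟶ S) {i : T ⟶ G}
    (hi : Red.IsMaximalTorus i) : Red.IsMaximalTorus ((Over.pullback f).map i) := by
  have hi1 := hi.1
  have hi2 := hi.2.1
  refine ⟨inferInstance, inferInstance, isTorus_bc f hi.2.2.1, fun s' => ?_⟩
  have h1 := isMaxTorOver_geom hi (Red.geomPt s' ≫ f)
  exact isMaxTorOver_of_arrow (BcIso.bcCompIso (Red.geomPt s') f T) (BcIso.bcCompIso (Red.geomPt s') f G)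
    (comp_nat (Red.geomPt s') f i).symm h1

omit [GrpObj G] [GrpObj T] in
/-- The hypothesis of `Groth.Agent.Sga3.H665.Act` and `MTPts`. -/
theorem torBc (G : Over S) [GrpObj G] [LocallyOfFiniteType G.hom] {S' S'' : Scheme.{u}} (q : S'' ⟶ S') {f : S' ⟶ S}
    {H : Over S'} [GrpObj H] {h : H ⟶ Red.bc f G} (hh : Red.IsMaximalTorus h) :
    Red.IsMaximalTorus ((Over.pullback q).map h) := by
  have : LocallyOfFiniteType (Red.bc f G).hom := inferInstanceAs (LocallyOfFiniteType (pullback.snd G.hom f))
  exact isMaximalTorus_bc q hh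

omit [GrpObj G] [GrpObj T] in
theorem mtPts_torBc (G : Over S) [GrpObj G] [LocallyOfFiniteType G.hom] : MTPts.TorBc G := by
  intro S' S'' q f H _ h hh
  refine AlgBc.isMaximalTorus_of_arrow (Iso.refl _) (BcIso.bcCompIso q f G).symm ?_ (torBc G q hh)
  have e : (RedIso.und (BcIso.bcCompIso q f G).symm).hom = (Over.pullbackComp q f).inv.app G := by
    have h1 := BcNat.und_bcCompIso q f G
    have h2 : (RedIso.und (BcIso.bcCompIso q f G).symm).hom ≫
        (RedIso.und (BcIso.bcCompIso q f G)).hom = 𝟙 _ := by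
      rw [BcNat.und_symm, Iso.inv_hom_id]
    rw [h1] at h2
    have h3 : (Over.pullbackComp q f).inv.app G ≫ (Over.pullbackComp q f).hom.app G = 𝟙 _ := by
      simp
    exact (cancel_mono ((Over.pullbackComp q f).hom.app G)).1 (h2.trans h3.symm)
  rw [e]
  exact (Category.id_comp _).symm

end Groth.Agent.Sga3.H830.TorBc
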