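import Groth.Agent.Sga3.H830.AlgGrpAb
import Mathlib.AlgebraicGeometry.Group.Abelian

/-!
# Commutative algebraic groups over a field form an abelian category: assembly
-/

set_option autoImplicit false

universe u

open CategoryTheory MonoidalCategory CartesianMonoidalCategory MonObj GrpObj AlgebraicGeometry Limits

namespace Groth.Agent.Sga3.H830.AlgGrpAbMain

open Groth.Agent.Sga3B.KerGrp Groth.Agent.Sga3C.QuotProps AlgGrpAb CommGrpProd CommAux

attribute [local instance] CommGrpPreadd.preadditive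

variable (k : Type u) [Field k]

/-- The commutative algebraic groups over `k`. -/
abbrev P : ObjectProperty (CommGrp (Over (Spec (CommRingCat.of k)))) :=
  fun G => LocallyOfFiniteType G.X.hom ∧ QuasiCompact G.X.hom

variable {k}

/-- The underlying morphism. -/
abbrev und {G H : (P k).FullSubcategory} (f : G ⟶ H) : G.obj.X ⟶ H.obj.X := f.hom.hom.hom.hom

theorem und_comp {G H K : (P k).FullSubcategory} (f : G ⟶ H) (g : H ⟶ K) : und (f ≫ g) = und f ≫ und g := rfl

theorem und_zero {G H : (P k).FullSubcategory} : und (0 : G ⟶ H) = 1 := rfl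

theorem und_inj {G H : (P k).FullSubcategory} {f g : G ⟶ H} (h : und f = und g) : f = g := homP_ext h


theorem comp_eq_zero_iff {G H K : (P k).FullSubcategory} (f : G ⟶ H) (g : H ⟶ K) :
    f ≫ g = 0 ↔ und f ≫ und g = 1 :=
  ⟨fun h => by rw [← und_comp, h, und_zero], fun h => und_inj (by rw [und_comp, h, und_zero])⟩

theorem mono_of_und {G H : (P k).FullSubcategory} (f : G ⟶ H) [Mono (und f)] : Mono f :=
  ⟨fun x y h => und_inj (by rw [← cancel_mono (und f), ← und_comp, h, und_comp])⟩

theorem epi_of_und {G H : (P k).FullSubcategory} (f : G ⟶ H) [Epi (und f)] : Epi f :=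
  ⟨fun x y h => und_inj (by rw [← cancel_epi (und f), ← und_comp, h, und_comp])⟩

/-- Kernels. -/
theorem exists_ker {G H : (P k).FullSubcategory} (f : G ⟶ H) : ∃ (K : (P k).FullSubcategory) (i : K ⟶ G),
    Mono (und i) ∧ i ≫ f = 0 ∧ (∀ (T : Over (Spec (CommRingCat.of k))) (x : T ⟶ G.obj.X), x ≫ und f = 1 →
      ∃ t : T ⟶ K.obj.X, t ≫ und i = x) := by
  have hs : IsClosedImmersion (η[H.obj.X] : 𝟙_ _ ⟶ H.obj.X).left := inferInstance
  have hi : IsClosedImmersion (kerι (und f)).left :=
    inferInstanceAs (IsClosedImmersion (pullback.fst (und f).left (η[H.obj.X] : 𝟙_ _ ⟶ H.obj.X).left))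
  obtain ⟨gK, hK⟩ := exists_grpObj (und f)
  have hc : IsCommMonObj (kerObj (und f)) := isCommMonObj_of_mono (kerι (und f))
  have hm : Mono (kerι (und f)) := inferInstance
  let K : (P k).FullSubcategory := ⟨⟨kerObj (und f)⟩, isAlg_of_isClosedImmersion (kerι (und f)) G.property⟩
  refine ⟨K, mkHomP (G := K) (H := G) (kerι (und f)) hK, hm, ?_, ?_⟩
  · rw [comp_eq_zero_iff]
    exact kerι_comp (und f)
  · intro T x hx
    exact exists_lift (und f) x hx

/-- Monomorphisms of commutative algebraic groups are monomorphisms of schemes. -/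
theorem mono_und {G H : (P k).FullSubcategory} (f : G ⟶ H) [Mono f] : Mono (und f) := by
  obtain ⟨K, i, hi, hif, hl⟩ := exists_ker f
  have h0 : i = 0 := by rw [← cancel_mono f, hif, zero_comp]
  apply mono_of_ker
  intro T x hx
  obtain ⟨t, rfl⟩ := hl T x hx
  rw [h0, und_zero, MonObj.comp_one]

/-- The class of faithfully flat homomorphisms. -/
def W : MorphismProperty (P k).FullSubcategory := fun _ _ f => IsFppf (und f)

theorem epi_und_of_W {G H : (P k).FullSubcategory} (f : G ⟶ H) (hf : W f) : Epi (und f) := by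
  obtain ⟨h1, h2, h3⟩ := hf
  exact epi_of_flat_surjective (und f)

theorem epi_tensor {S : Scheme.{u}} {G H : Over S} (p : G ⟶ H) (hp : IsFppf p) : Epi (p ⊗ₘ p) := by
  obtain ⟨h1, h2, h3⟩ := hp
  have f2 : Flat (p ⊗ₘ p).left := tensorHom_left_of (@Flat) p p ‹_› ‹_›
  have s2 : Surjective (p ⊗ₘ p).left := tensorHom_left_of (@Surjective) p p ‹_› ‹_›
  exact epi_of_flat_surjective _

theorem exists_desc_of_W {G I : (P k).FullSubcategory} (q : G ⟶ I) (hq : W q) {Z : (P k).FullSubcategory}
    (g : G ⟶ Z) (hg : ∀ (T : (P k).FullSubcategory) (x : T ⟶ G), x ≫ q = 0 → x ≫ g = 0) :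
    ∃ h : I ⟶ Z, q ≫ h = g := by
  obtain ⟨K, i, hi, hiq, hl⟩ := exists_ker q
  have hig : und i ≫ und g = 1 := (comp_eq_zero_iff i g).1 (hg K i hiq)
  have hep := epi_tensor (und q) hq
  obtain ⟨h1, h2, h3⟩ := hq
  obtain ⟨h, hh⟩ := exists_desc (und q) (und g) (by
    intro T x y hxy
    obtain ⟨t, ht⟩ := hl T (x / y) (by rw [GrpObj.div_comp, hxy, div_self'])
    have h4 : (x / y) ≫ und g = 1 := by rw [← ht, Category.assoc, hig, MonObj.comp_one]
    rw [GrpObj.div_comp] at h4
    exact div_eq_one.1 h4)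
  have hm : IsMonHom (und q ≫ h) := by rw [hh]; infer_instance
  have hm' : IsMonHom h := isMonHom_of_epi (und q) h
  exact ⟨mkHomP h hm', und_inj hh⟩

theorem exists_fac {G H : (P k).FullSubcategory} (f : G ⟶ H) :
    ∃ (I : (P k).FullSubcategory) (q : G ⟶ I) (i : I ⟶ H), W q ∧ Mono i ∧ q ≫ i = f := by
  obtain ⟨I, gI, q, i, hq, hi, hqi, hf, hc, hI⟩ := exists_factor G.property H.property (und f)
  have hm : Mono i := by
    have : Mono i.left := inferInstance
    exact (Over.forget _).mono_of_mono_map ‹_›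
  have hcI : IsCommMonObj I := isCommMonObj_of_mono i
  let I' : (P k).FullSubcategory := ⟨⟨I⟩, hI⟩
  have : Mono (und (mkHomP (G := I') (H := H) i hi)) := hm
  exact ⟨I', mkHomP q hq, mkHomP i hi, hf, mono_of_und _, und_inj hqi⟩

theorem exists_normal {G H : (P k).FullSubcategory} (i : G ⟶ H) [Mono i] :
    ∃ (Q : (P k).FullSubcategory) (p : H ⟶ Q), W p ∧ i ≫ p = 0 ∧
      ∀ (T : (P k).FullSubcategory) (x : T ⟶ H), x ≫ p = 0 → ∃ t : T ⟶ G, t ≫ i = x := by
  have := mono_und i
  obtain ⟨Q, gQ, p, hp, hf, hk, hQ⟩ := exists_quotient G.property H.property (und i)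
  have hep := epi_tensor p hf
  have hcQ : IsCommMonObj Q := isCommMonObj_of_epi p
  let Q' : (P k).FullSubcategory := ⟨⟨Q⟩, hQ⟩
  refine ⟨Q', mkHomP p hp, hf, ?_, ?_⟩
  · rw [comp_eq_zero_iff]
    exact hk.w
  · intro T x hx
    rw [comp_eq_zero_iff] at hx
    let t := hk.lift (und x) (toUnit _) hx
    have ht : t ≫ und i = und x := hk.lift_fst _ _ _
    have hm : IsMonHom (t ≫ und i) := by rw [ht]; infer_instance
    have hm' : IsMonHom t := Groth.Agent.Sga3C.SubGrp.isMonHom_of_comp_mono t (und i)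
    exact ⟨mkHomP t hm', und_inj ht⟩

theorem hasFiniteProducts_P : HasFiniteProducts (P k).FullSubcategory := by
  refine CommGrpProd.hasFiniteProducts ?_ ?_
  · intro G H hG hH
    have := hG.1
    have := hG.2
    have := hH.1
    have := hH.2
    exact ⟨inferInstanceAs (LocallyOfFiniteType (pullback.fst G.X.hom H.X.hom ≫ G.X.hom)),
      inferInstanceAs (QuasiCompact (pullback.fst G.X.hom H.X.hom ≫ G.X.hom))⟩
  · exact ⟨inferInstanceAs (LocallyOfFiniteType (𝟙 _)), inferInstanceAs (QuasiCompact (𝟙 _))⟩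

variable (k) in
/-- **The category of commutative algebraic groups over a field is abelian.** -/
theorem abelian : Nonempty (Abelian (P k).FullSubcategory) := by
  have := hasFiniteProducts_P (k := k)
  refine AbelianCrit.abelian_of_factorization (W (k := k)) ?_ (fun f => exists_fac f)
    (fun i _ => exists_normal i) ?_ (fun q hq => fun {Z} g hg => exists_desc_of_W q hq g hg)
  · intro G H f
    obtain ⟨K, i, hi, hif, hl⟩ := exists_ker f
    refine ⟨K, i, mono_of_und i, hif, fun T x hx => ?_⟩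
    obtain ⟨t, ht⟩ := hl _ (und x) ((comp_eq_zero_iff x f).1 hx)
    have hm : IsMonHom (t ≫ und i) := by rw [ht]; infer_instance
    have hm' : IsMonHom t := Groth.Agent.Sga3C.SubGrp.isMonHom_of_comp_mono t (und i)
    exact ⟨mkHomP t hm', und_inj ht⟩
  · intro G I q hq
    have := epi_und_of_W q hq
    exact epi_of_und q

end Groth.Agent.Sga3.H830.AlgGrpAbMain
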