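import Mathlib.CategoryTheory.Abelian.Basic

/-!
# A criterion for a preadditive category to be abelian

`abelian_of_factorization`: a preadditive category with finite products and kernels is abelian as soon as
there is a class `W` of epimorphisms (think: faithfully flat homomorphisms) such that
* every morphism is the composite of a morphism in `W` and a monomorphism;
* every monomorphism is a kernel of a morphism in `W`;
* every morphism killing the kernel of a morphism `q` of `W` factors through `q`.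
The hypotheses are spelled out in elementary terms (no limit cones).
-/

set_option autoImplicit false

universe v u

open CategoryTheory Limits

namespace Groth.Agent.Sga3.H830.AbelianCrit

variable {A : Type u} [Category.{v} A] [Preadditive A]

theorem abelian_of_factorization [HasFiniteProducts A] (W : MorphismProperty A)
    (hker : ∀ {G H : A} (f : G ⟶ H), ∃ (K : A) (k : K ⟶ G), Mono k ∧ k ≫ f = 0 ∧
      ∀ (T : A) (x : T ⟶ G), x ≫ f = 0 → ∃ t : T ⟶ K, t ≫ k = x)
    (hfac : ∀ {G H : A} (f : G ⟶ H), ∃ (I : A) (q : G ⟶ I) (i : I ⟶ H), W q ∧ Mono i ∧ q ≫ i = f)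
    (hmono : ∀ {G H : A} (i : G ⟶ H) [Mono i], ∃ (Q : A) (p : H ⟶ Q), W p ∧ i ≫ p = 0 ∧
      ∀ (T : A) (x : T ⟶ H), x ≫ p = 0 → ∃ t : T ⟶ G, t ≫ i = x)
    (hepi : ∀ {G I : A} (q : G ⟶ I), W q → Epi q)
    (hW : ∀ {G I : A} (q : G ⟶ I), W q → ∀ {Z : A} (g : G ⟶ Z),
      (∀ (T : A) (x : T ⟶ G), x ≫ q = 0 → x ≫ g = 0) → ∃ h : I ⟶ Z, q ≫ h = g) :
    Nonempty (Abelian A) := by
  classical
  have hK : HasKernels A := by
    refine ⟨fun {G H} f => ?_⟩
    obtain ⟨K, k, hk, w, hl⟩ := hker f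
    exact ⟨⟨⟨KernelFork.ofι k w, KernelFork.IsLimit.ofι' k w fun {T} x hx =>
      ⟨(hl T x hx).choose, (hl T x hx).choose_spec⟩⟩⟩⟩
  have hC : HasCokernels A := by
    refine ⟨fun {G H} f => ?_⟩
    obtain ⟨I, q, i, hq, hi, hqi⟩ := hfac f
    obtain ⟨Q, p, hp, w, hl⟩ := hmono i
    have := hepi q hq
    have := hepi p hp
    have w' : f ≫ p = 0 := by rw [← hqi, Category.assoc, w, comp_zero]
    have key : ∀ {Z : A} (g : H ⟶ Z), f ≫ g = 0 → ∃ h : Q ⟶ Z, p ≫ h = g := by
      intro Z g hg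
      refine hW p hp g fun T x hx => ?_
      obtain ⟨t, rfl⟩ := hl T x hx
      have hig : i ≫ g = 0 := by rw [← cancel_epi q, comp_zero, ← Category.assoc, hqi, hg]
      rw [Category.assoc, hig, comp_zero]
    exact ⟨⟨⟨CokernelCofork.ofπ p w', CokernelCofork.IsColimit.ofπ' p w' fun {Z} g hg =>
      ⟨(key g hg).choose, (key g hg).choose_spec⟩⟩⟩⟩
  have hNM : IsNormalMonoCategory A := by
    refine ⟨fun {G H} i _ => ?_⟩
    obtain ⟨Q, p, hp, w, hl⟩ := hmono i
    exact ⟨⟨Q, p, w, KernelFork.IsLimit.ofι' i w fun {T} x hx =>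
      ⟨(hl T x hx).choose, (hl T x hx).choose_spec⟩⟩⟩
  have hNE : IsNormalEpiCategory A := by
    refine ⟨fun {G H} f _ => ?_⟩
    obtain ⟨I, q, i, hq, hi, hqi⟩ := hfac f
    have := hepi q hq
    have hei : Epi i := by
      have : Epi (q ≫ i) := by rw [hqi]; infer_instance
      exact epi_of_epi q i
    obtain ⟨Q, p, hp, w, hl⟩ := hmono i
    have hp0 : p = 0 := by rw [← cancel_epi i, w, comp_zero]
    obtain ⟨s, hs⟩ := hl H (𝟙 H) (by rw [hp0, comp_zero])
    obtain ⟨K, k, hk, wk, hkl⟩ := hker q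
    have wf : k ≫ f = 0 := by rw [← hqi, ← Category.assoc, wk, zero_comp]
    have key : ∀ {Z : A} (g : G ⟶ Z), k ≫ g = 0 → ∃ h : H ⟶ Z, f ≫ h = g := by
      intro Z g hg
      obtain ⟨h, hh⟩ := hW q hq g fun T x hx => by
        obtain ⟨t, rfl⟩ := hkl T x hx
        rw [Category.assoc, hg, comp_zero]
      have hsi : i ≫ s = 𝟙 I := by rw [← cancel_mono i, Category.assoc, hs, Category.comp_id, Category.id_comp]
      refine ⟨s ≫ h, ?_⟩
      rw [← hqi, Category.assoc, ← Category.assoc i, hsi, Category.id_comp, hh]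
    exact ⟨⟨K, k, wf, CokernelCofork.IsColimit.ofπ' f wf fun {Z} g hg =>
      ⟨(key g hg).choose, (key g hg).choose_spec⟩⟩⟩
  exact ⟨{}⟩

end Groth.Agent.Sga3.H830.AbelianCrit
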