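import Groth.Agent.Sga3.H830.CommGrpPreadd
import Mathlib.CategoryTheory.Limits.Constructions.FiniteProductsOfBinaryProducts
import Mathlib.CategoryTheory.ObjectProperty.FullSubcategory

/-!
# Finite products in full subcategories of commutative group objects
-/

set_option autoImplicit false

universe v u

open CategoryTheory MonoidalCategory CartesianMonoidalCategory MonObj GrpObj Limits

namespace Groth.Agent.Sga3.H830.CommGrpProd

variable {C : Type u} [Category.{v} C] [CartesianMonoidalCategory C] [BraidedCategory C]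

/-- A homomorphism of commutative group objects from a morphism of underlying objects. -/
def mkHom {G H : CommGrp C} (f : G.X ⟶ H.X) (hf : IsMonHom f) : G ⟶ H :=
  InducedCategory.homMk (Grp.homMk f)

@[simp]
theorem mkHom_hom {G H : CommGrp C} (f : G.X ⟶ H.X) (hf : IsMonHom f) :
    (mkHom (G := G) (H := H) f hf).hom.hom.hom = f := rfl

/-- A homomorphism in a full subcategory of commutative group objects. -/
def mkHomP {P : ObjectProperty (CommGrp C)} {G H : P.FullSubcategory} (f : G.obj.X ⟶ H.obj.X)
    (hf : IsMonHom f) : G ⟶ H :=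
  ObjectProperty.homMk (mkHom f hf)

@[simp]
theorem mkHomP_hom {P : ObjectProperty (CommGrp C)} {G H : P.FullSubcategory} (f : G.obj.X ⟶ H.obj.X)
    (hf : IsMonHom f) : (mkHomP (G := G) (H := H) f hf).hom.hom.hom.hom = f := rfl

/-- The product of two commutative group objects. -/
def prodObj (G H : CommGrp C) : CommGrp C where
  X := G.X ⊗ H.X

variable {P : ObjectProperty (CommGrp C)}

theorem homP_ext {G H : P.FullSubcategory} {f g : G ⟶ H} (h : f.hom.hom.hom.hom = g.hom.hom.hom.hom) : f = g := by
  apply ObjectProperty.hom_ext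
  apply CommGrp.hom_ext
  exact h

theorem hasLimit_pair (hP : ∀ G H : CommGrp C, P G → P H → P (prodObj G H)) (G H : P.FullSubcategory) :
    HasLimit (pair G H) := by
  have i1 : IsMonHom (fst G.obj.X H.obj.X) := inferInstance
  have i2 : IsMonHom (snd G.obj.X H.obj.X) := inferInstance
  have i3 : ∀ {T : P.FullSubcategory} (f : T ⟶ G) (g : T ⟶ H),
      IsMonHom (lift f.hom.hom.hom.hom g.hom.hom.hom.hom) := fun f g => inferInstance
  let GH : P.FullSubcategory := ⟨prodObj G.obj H.obj, hP _ _ G.property H.property⟩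
  let p1 : GH ⟶ G := mkHomP (G := GH) (H := G) (fst G.obj.X H.obj.X) i1
  let p2 : GH ⟶ H := mkHomP (G := GH) (H := H) (snd G.obj.X H.obj.X) i2
  refine ⟨⟨⟨BinaryFan.mk p1 p2, BinaryFan.IsLimit.mk _
    (fun {T} f g => mkHomP (G := T) (H := GH) (lift f.hom.hom.hom.hom g.hom.hom.hom.hom) (i3 f g)) ?_ ?_ ?_⟩⟩⟩
  · intro T f g
    apply homP_ext
    exact lift_fst _ _
  · intro T f g
    apply homP_ext
    exact lift_snd _ _
  · intro T f g m h1 h2
    apply homP_ext
    apply CartesianMonoidalCategory.hom_ext
    · exact (congrArg (fun z => z.hom.hom.hom.hom) h1).trans (lift_fst _ _).symm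
    · exact (congrArg (fun z => z.hom.hom.hom.hom) h2).trans (lift_snd _ _).symm

theorem hasBinaryProducts (hP : ∀ G H : CommGrp C, P G → P H → P (prodObj G H)) :
    HasBinaryProducts P.FullSubcategory := by
  have key : ∀ {G H : P.FullSubcategory}, HasLimit (pair G H) := fun {G H} => hasLimit_pair hP G H
  exact hasBinaryProducts_of_hasLimit_pair _

theorem hasTerminal (h0 : P (CommGrp.trivial C)) : HasTerminal P.FullSubcategory := by
  have i1 : ∀ G : P.FullSubcategory, IsMonHom (toUnit G.obj.X) := fun G => inferInstance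
  have h1 : ∀ G : P.FullSubcategory, Nonempty (G ⟶ (⟨CommGrp.trivial C, h0⟩ : P.FullSubcategory)) := by
    intro G
    exact ⟨mkHomP (toUnit G.obj.X) (i1 G)⟩
  have h2 : ∀ G : P.FullSubcategory, Subsingleton (G ⟶ (⟨CommGrp.trivial C, h0⟩ : P.FullSubcategory)) := by
    intro G
    refine ⟨fun f g => ?_⟩
    apply homP_ext
    exact toUnit_unique _ _
  exact hasTerminal_of_unique (⟨CommGrp.trivial C, h0⟩ : P.FullSubcategory)

theorem hasFiniteProducts (hP : ∀ G H : CommGrp C, P G → P H → P (prodObj G H))
    (h0 : P (CommGrp.trivial C)) : HasFiniteProducts P.FullSubcategory := by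
  have := hasBinaryProducts hP
  have := hasTerminal h0
  exact hasFiniteProducts_of_has_binary_and_terminal

end Groth.Agent.Sga3.H830.CommGrpProd
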