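import Groth.Agent.S3034
import Groth.Agent.S3030
import Groth.Agent.S0114
import Groth.Agent.Sga3B.KerGrp
import Groth.Agent.Sga3C.QuotProps
import Groth.Agent.Sga3.H830.CommGrpProd
import Groth.Agent.Sga3.H830.AbelianCrit
import Groth.Agent.Sga3.H830.CommAux

/-!
# Commutative algebraic groups over a field form an abelian category
-/

set_option autoImplicit false

universe u

open CategoryTheory MonoidalCategory CartesianMonoidalCategory MonObj GrpObj AlgebraicGeometry Limits

namespace Groth.Agent.Sga3.H830.AlgGrpAb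

open Groth.Agent.Sga3B.KerGrp Groth.Agent.Sga3C.QuotProps

/-- The algebraic groups: finite type over the base. -/
def IsAlg {S : Scheme.{u}} (G : Over S) : Prop := LocallyOfFiniteType G.hom ∧ QuasiCompact G.hom

section Basic

variable {k : Type u} [Field k] {G H : Over (Spec (CommRingCat.of k))}

theorem flat_hom (G : Over (Spec (CommRingCat.of k))) : Flat G.hom := by
  have : Subsingleton (Spec (CommRingCat.of k)) := inferInstanceAs (Subsingleton (PrimeSpectrum k))
  infer_instance

theorem flat_of_field {X : Scheme.{u}} (f : X ⟶ Spec (CommRingCat.of k)) : Flat f := flat_hom (Over.mk f)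

theorem isLocallyNoetherian_spec : IsLocallyNoetherian (Spec (CommRingCat.of k)) := by
  have : IsNoetherianRing (CommRingCat.of k) := inferInstanceAs (IsNoetherianRing k)
  infer_instance

theorem quasiCompact_left (hG : IsAlg G) (hH : IsAlg H) (u : G ⟶ H) : QuasiCompact u.left := by
  obtain ⟨hG1, hG2⟩ := hG
  obtain ⟨hH1, hH2⟩ := hH
  have : IsLocallyNoetherian (Spec (CommRingCat.of k)) := isLocallyNoetherian_spec
  have : IsLocallyNoetherian H.left := LocallyOfFiniteType.isLocallyNoetherian H.hom
  have : QuasiCompact (u.left ≫ H.hom) := by rw [Over.w]; exact hG2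
  exact QuasiCompact.of_comp u.left H.hom

theorem isAlg_of_isClosedImmersion (u : G ⟶ H) [IsClosedImmersion u.left] (hH : IsAlg H) : IsAlg G := by
  obtain ⟨hH1, hH2⟩ := hH
  constructor
  · rw [← Over.w u]; infer_instance
  · rw [← Over.w u]; infer_instance

theorem isAlg_of_fppf (u : G ⟶ H) [Flat u.left] [Surjective u.left] [LocallyOfFinitePresentation u.left]
    (hG : IsAlg G) : IsAlg H := by
  obtain ⟨hG1, hG2⟩ := hG
  have : IsLocallyNoetherian (Spec (CommRingCat.of k)) := isLocallyNoetherian_spec
  constructor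
  · have : LocallyOfFinitePresentation G.hom := LocallyOfFinitePresentation.iff_locallyOfFiniteType.2 hG1
    have : LocallyOfFinitePresentation (u.left ≫ H.hom) := by rw [Over.w]; exact this
    have : LocallyOfFinitePresentation H.hom := Groth.Agent.S0114.result u.left H.hom
    infer_instance
  · have : CompactSpace G.left := (quasiCompact_iff_compactSpace G.hom).1 hG2
    have : CompactSpace H.left := by
      have hs : Function.Surjective u.left := u.left.surjective
      exact ⟨by rw [← hs.range_eq]; exact isCompact_range u.left.continuous⟩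
    exact (quasiCompact_iff_compactSpace H.hom).2 this

/-- A homomorphism with trivial kernel is a monomorphism. -/
theorem mono_of_ker {C : Type*} [Category C] [CartesianMonoidalCategory C] {G H : C} [GrpObj G] [GrpObj H]
    (u : G ⟶ H) [IsMonHom u] (hu : ∀ (T : C) (x : T ⟶ G), x ≫ u = 1 → x = 1) : Mono u := by
  refine ⟨fun {T} x y h => ?_⟩
  have h1 : (x / y) ≫ u = 1 := by rw [GrpObj.div_comp, h, div_self']
  exact div_eq_one.1 (hu T _ h1)

end Basic

section Geometry

variable {k : Type u} [Field k] {G H : Over (Spec (CommRingCat.of k))} [GrpObj G] [GrpObj H]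

/-- Faithfully flat homomorphisms, locally of finite presentation. -/
def IsFppf {S : Scheme.{u}} {G H : Over S} (u : G ⟶ H) : Prop :=
  Flat u.left ∧ Surjective u.left ∧ LocallyOfFinitePresentation u.left

/-- The factorisation of a homomorphism as a faithfully flat homomorphism followed by a closed immersion. -/
theorem exists_factor (hG : IsAlg G) (hH : IsAlg H) (u : G ⟶ H) [IsMonHom u] :
    ∃ (I : Over (Spec (CommRingCat.of k))) (_ : GrpObj I) (p : G ⟶ I) (i : I ⟶ H),
      IsMonHom p ∧ IsMonHom i ∧ p ≫ i = u ∧ IsFppf p ∧ IsClosedImmersion i.left ∧ IsAlg I := by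
  have := quasiCompact_left hG hH u
  have := hG.1
  have := hH.1
  have := flat_hom G
  obtain ⟨I, hI, p, i, hp, hi, hpi, h1, h2, h3, h4⟩ := Groth.Agent.S3034.result k G H u (flat_of_field _)
  exact ⟨I, hI, p, i, hp, hi, hpi, ⟨h1, h2, h3⟩, h4, isAlg_of_isClosedImmersion i hH⟩

/-- The quotient of a commutative algebraic group by a subgroup. -/
theorem exists_quotient [IsCommMonObj H] (hG : IsAlg G) (hH : IsAlg H) (u : G ⟶ H) [IsMonHom u] [Mono u] :
    ∃ (Q : Over (Spec (CommRingCat.of k))) (_ : GrpObj Q) (p : H ⟶ Q), IsMonHom p ∧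
      IsFppf p ∧ AlgGrp.IsKernel u p ∧ IsAlg Q := by
  have := quasiCompact_left hG hH u
  have := hG.1
  have := hH.1
  have := flat_hom G
  have := flat_hom H
  have hN : AlgGrp.IsNormalHom u := by
    intro T g n
    refine ⟨n, ?_⟩
    rw [mul_comm g, mul_inv_cancel_right]
  obtain ⟨Q, hQ, p, hp, h1, h2, h3, h4, -, -, -⟩ := Groth.Agent.S3030.result k G H u hN
  exact ⟨Q, hQ, p, hp, ⟨h1, h2, h3⟩, h4, isAlg_of_fppf p hH⟩

end Geometry

end Groth.Agent.Sga3.H830.AlgGrpAb
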