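import Mathlib.CategoryTheory.Monoidal.Cartesian.Grp
import Mathlib.CategoryTheory.Monoidal.CommGrp_
import Mathlib.CategoryTheory.Preadditive.Biproducts

/-!
# The category of commutative group objects of a cartesian monoidal category is preadditive
-/

set_option autoImplicit false

universe v u

open CategoryTheory MonoidalCategory CartesianMonoidalCategory MonObj GrpObj Limits

namespace Groth.Agent.Sga3.H830.CommGrpPreadd

variable {C : Type u} [Category.{v} C] [CartesianMonoidalCategory C] [BraidedCategory C]

/-- Homomorphisms of commutative group objects, additively. -/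
def homEquiv (G H : CommGrp C) : (G ⟶ H) ≃ Additive (G.toGrp ⟶ H.toGrp) :=
  InducedCategory.homEquiv.trans Additive.ofMul

/-- The additive group structure on homomorphisms of commutative group objects. -/
@[reducible]
def homAddCommGroup (G H : CommGrp C) : AddCommGroup (G ⟶ H) := (homEquiv G H).addCommGroup

/-- The category of commutative group objects of a cartesian monoidal category is preadditive. -/
@[reducible]
def preadditive : Preadditive (CommGrp C) where
  homGroup G H := homAddCommGroup G H
  add_comp G H K f g h := by
    apply CommGrp.hom_ext
    exact MonObj.mul_comp f.hom.hom.hom g.hom.hom.hom h.hom.hom.hom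
  comp_add G H K f g h := by
    apply CommGrp.hom_ext
    exact MonObj.comp_mul f.hom.hom.hom g.hom.hom.hom h.hom.hom.hom

attribute [local instance] preadditive

theorem add_hom {G H : CommGrp C} (f g : G ⟶ H) :
    (f + g).hom.hom.hom = f.hom.hom.hom * g.hom.hom.hom := rfl

theorem zero_hom {G H : CommGrp C} : (0 : G ⟶ H).hom.hom.hom = 1 := rfl

theorem neg_hom {G H : CommGrp C} (f : G ⟶ H) :
    (-f).hom.hom.hom = (f.hom.hom.hom)⁻¹ := rfl

end Groth.Agent.Sga3.H830.CommGrpPreadd
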