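import Groth.Agent.Sga3.H819.HomAff
import Groth.Agent.Sga3.H783.TorsAff
import Groth.Agent.Books.AlgPts
import Groth.Agent.Sga3B.AdAff
import Groth.Agent.S0593

/-!
# The scheme of homomorphisms from a finite group, over a field

`Γ` a finite group whose order is invertible in the field `k`, `G` an algebraic group over `k`,
`H = Hom(Γ, G)`.

* `isAffine_homScheme`: `H` is affine if `G` is connected (of finite type).
* `isClosed_of_stable`: if `G` is smooth, an open subset of `H` which is stable under conjugation is closed.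
* `isAffine_of_stable`: hence it is affine.
-/

set_option autoImplicit false
universe u
open CategoryTheory MonoidalCategory CartesianMonoidalCategory MonObj GrpObj AlgebraicGeometry Limits

namespace Groth.Agent.Sga3.H830.FibAff

open Groth.Agent.Sga3.H797 HomFin
open Groth.Agent.Books.AlgPts (pt exists_pt_mem exists_comp_eq_of_pt_mem_range subset_of_forall_pt pt_comp)

section algClosed

variable {K : Type u} [Field K] [IsAlgClosed K] {G H : Over (Spec (CommRingCat.of K))} [GrpObj G] {Γ : Type*}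
  [Group Γ] [Finite Γ] {υ : Γ →* (H ⟶ G)}

/-- Over an algebraically closed field, an open subset of `Hom(Γ, G)` stable under conjugation is closed. -/
theorem isClosed_of_stable_algClosed [Smooth G.hom] [LocallyOfFinitePresentation H.hom]
    (hH : IsHomScheme G Γ H υ) (hn : Inv (Nat.card Γ) (Spec (CommRingCat.of K)))
    (P : Set H.left) (hP : IsOpen P)
    (hst : ∀ (x y : 𝟙_ (Over (Spec (CommRingCat.of K))) ⟶ H) (g : 𝟙_ (Over (Spec (CommRingCat.of K))) ⟶ G),
      (∀ γ, y ≫ υ γ = g * (x ≫ υ γ) * g⁻¹) → pt x ∈ P → pt y ∈ P) : IsClosed P := by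
  have hlocG : LocallyOfFiniteType G.hom := inferInstance
  have hlocH : LocallyOfFiniteType H.hom := inferInstance
  rw [← isOpen_compl_iff, isOpen_iff_forall_mem_open]
  -- the orbit of a rational point outside `P` is open and outside `P`
  have key : ∀ x : 𝟙_ (Over (Spec (CommRingCat.of K))) ⟶ H, pt x ∉ P →
      ∃ O : Set H.left, IsOpen O ∧ pt x ∈ O ∧ O ⊆ Pᶜ := by
    intro x hx
    obtain ⟨o, ho⟩ := H819.HomAff.exists_orb hH ((InfChart.pre G x).comp υ)
    have hsm := H819.HomAff.smooth_orb hH hn _ o ho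
    have hopen : IsOpen (Set.range o.left) := o.left.isOpenMap.isOpen_range
    refine ⟨Set.range o.left, hopen, ?_, ?_⟩
    · refine ⟨pt (η[G] : 𝟙_ (Over (Spec (CommRingCat.of K))) ⟶ G), ?_⟩
      rw [← pt_comp]
      congr 1
      apply H819.HomAff.hom_ext hH
      intro γ
      rw [ho]
      have h1 : (η[G] : 𝟙_ (Over (Spec (CommRingCat.of K))) ⟶ G) = 1 := by rw [MonObj.one_eq_one]
      rw [h1, _root_.one_mul, inv_one, _root_.mul_one]
      change toUnit _ ≫ x ≫ υ γ = _
      rw [toUnit_unique (toUnit (𝟙_ (Over (Spec (CommRingCat.of K))))) (𝟙 _), Category.id_comp]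
    · rintro z hz hzP
      obtain ⟨y, hy⟩ := exists_pt_mem (X := H) (U := Set.range o.left ∩ P) ⟨z, hz, hzP⟩
        (hopen.inter hP).isLocallyClosed
      obtain ⟨g, rfl⟩ := exists_comp_eq_of_pt_mem_range o y hy.1
      apply hx
      refine hst (g ≫ o) x g⁻¹ (fun γ => ?_) hy.2
      rw [ho]
      change _ = g⁻¹ * (g * (toUnit _ ≫ x ≫ υ γ) * g⁻¹) * (g⁻¹)⁻¹
      rw [toUnit_unique (toUnit (𝟙_ (Over (Spec (CommRingCat.of K))))) (𝟙 _), Category.id_comp]
      group
  let U : Set H.left := ⋃ (x : 𝟙_ (Over (Spec (CommRingCat.of K))) ⟶ H) (hx : pt x ∉ P), (key x hx).choose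
  have hU : IsOpen U := isOpen_iUnion fun x => isOpen_iUnion fun hx => (key x hx).choose_spec.1
  have hUP : U ⊆ Pᶜ := Set.iUnion_subset fun x => Set.iUnion_subset fun hx => (key x hx).choose_spec.2.2
  have hPU : Pᶜ ⊆ U := by
    by_contra hne
    obtain ⟨z, hz, hz'⟩ := Set.not_subset.mp hne
    obtain ⟨x, hx, hx'⟩ := exists_pt_mem (X := H) (U := Pᶜ ∩ Uᶜ) ⟨z, hz, hz'⟩
      (hP.isClosed_compl.inter hU.isClosed_compl).isLocallyClosed
    exact hx' (Set.mem_iUnion.2 ⟨x, Set.mem_iUnion.2 ⟨hx, (key x hx).choose_spec.2.1⟩⟩)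
  intro z hz
  exact ⟨U, hUP, hU, hPU hz⟩

end algClosed

section field

variable {k : Type u} [Field k] {G H : Over (Spec (CommRingCat.of k))} [GrpObj G] {Γ : Type*}
  [Group Γ] [Finite Γ] {υ : Γ →* (H ⟶ G)}

/-- The scheme of homomorphisms from `Γ` to a connected algebraic group is affine. -/
theorem isAffine_homScheme [LocallyOfFiniteType G.hom] [QuasiCompact G.hom] [ConnectedSpace G.left]
    (hH : IsHomScheme G Γ H υ) (hn : (Nat.card Γ : k) ≠ 0) : IsAffine H.left := by
  let n := Nat.card Γ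
  let E := pullback ((𝟙 G : G ⟶ G) ^ n) η[G]
  let e : E ⟶ G := pullback.fst ((𝟙 G : G ⟶ G) ^ n) η[G]
  have he : IsPullback e (toUnit E) ((𝟙 G : G ⟶ G) ^ n) η[G] := by
    have h1 := IsPullback.of_hasPullback ((𝟙 G : G ⟶ G) ^ n) η[G]
    rwa [toUnit_unique (pullback.snd ((𝟙 G : G ⟶ G) ^ n) η[G]) (toUnit E)] at h1
  have hE : IsAffine E.left := H783.TorsAff.isAffine_torsion k G n hn e he
  have hemono : Mono e := by
    have h1 : Mono (η[G] : 𝟙_ (Over (Spec (CommRingCat.of k))) ⟶ G) := by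
      constructor
      intro T x y _
      exact toUnit_unique _ _
    exact he.flip.mono_snd_of_mono
  have hEh : IsAffineHom E.hom := inferInstance
  obtain ⟨P, p, hP, hPa⟩ := H819.HomAff.exists_pow' E Γ
  have hsep : IsSeparated G.hom := Groth.Agent.Books.AntiAffine.isSeparated_hom G
  obtain ⟨W, q, hW, -, hWs, -⟩ := HomFin.exists_pow' G (Γ × Γ)
  have := hWs inferInstance
  obtain ⟨a, ha, -⟩ := hW P (fun x => p (x.1 * x.2) ≫ e)
  obtain ⟨b, hb, -⟩ := hW P (fun x => (p x.1 ≫ e) * (p x.2 ≫ e))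
  obtain ⟨Z, z, hz, huniv, -⟩ := exists_eq a b
  have hmono : Mono z := Over.mono_of_mono_left z
  have hz1 : ∀ γ δ, z ≫ p (γ * δ) ≫ e = (z ≫ p γ ≫ e) * (z ≫ p δ ≫ e) := by
    intro γ δ
    have h1 := (huniv Z z).1 ⟨𝟙 _, Category.id_comp _⟩
    have h2 := congrArg (fun f => f ≫ q (γ, δ)) h1
    simp only [Category.assoc, ha, hb] at h2
    rw [h2, MonObj.comp_mul]
  have hZ : IsAffineHom Z.hom := by
    have : IsAffineHom (z.left ≫ P.hom) := inferInstance
    rwa [Over.w] at this
  obtain ⟨t, ht⟩ := H819.HomAff.exists_pt hH (MonoidHom.mk' (fun γ => z ≫ p γ ≫ e) hz1)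
  replace ht : ∀ γ, t ≫ υ γ = z ≫ p γ ≫ e := ht
  have hpow : ∀ γ, (υ γ) ^ n = 1 := fun γ => by rw [← map_pow, pow_card_eq_one', map_one]
  let r : Γ → (H ⟶ E) := fun γ => he.lift (υ γ) (toUnit H) (by
    rw [MonObj.comp_pow, Category.comp_id, hpow]; rfl)
  have hr : ∀ γ, r γ ≫ e = υ γ := fun γ => he.lift_fst _ _ _
  obtain ⟨s0, hs0, -⟩ := hP H r
  have hs1 : s0 ≫ a = s0 ≫ b := by
    refine (hW H (fun x => υ (x.1 * x.2))).unique (fun x => ?_) (fun x => ?_)
    · rw [Category.assoc, ha, reassoc_of% hs0, hr]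
    · rw [Category.assoc, hb, MonObj.comp_mul, reassoc_of% hs0, reassoc_of% hs0, hr, hr, map_mul]
  obtain ⟨s, hs⟩ := (huniv H s0).2 hs1
  have h1 : s ≫ t = 𝟙 H := H819.HomAff.hom_ext hH (fun γ => by
    rw [Category.assoc, ht, reassoc_of% hs, reassoc_of% hs0, hr, Category.id_comp])
  have h2 : t ≫ s = 𝟙 Z := by
    rw [← cancel_mono z, Category.assoc, hs, Category.id_comp]
    refine (hP Z (fun γ => z ≫ p γ)).unique (fun γ => ?_) (fun γ => rfl)
    rw [← cancel_mono e, Category.assoc, Category.assoc, Category.assoc, reassoc_of% hs0, hr, ht]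
  have hiso : IsIso s.left := by
    have h3 : s.left ≫ t.left = 𝟙 _ := congrArg CommaMorphism.left h1
    have h4 : t.left ≫ s.left = 𝟙 _ := congrArg CommaMorphism.left h2
    exact ⟨⟨t.left, h3, h4⟩⟩
  have hZl : IsAffine Z.left := isAffine_of_isAffineHom Z.hom
  exact IsAffine.of_isIso s.left

end field

section bc

variable {S S' : Scheme.{u}} (f : S' ⟶ S) {G H : Over S} [GrpObj G] {Γ : Type*} [Group Γ] {υ : Γ →* (H ⟶ G)}

/-- the base change of the universal homomorphism -/
noncomputable def bcHom (υ : Γ →* (H ⟶ G)) : Γ →* (Red.bc f H ⟶ Red.bc f G) :=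
  MonoidHom.mk' (fun γ => (Over.pullback f).map (υ γ)) (fun γ δ => by
    rw [map_mul, Functor.map_mul])

lemma bcHom_apply (γ : Γ) : bcHom f υ γ = (Over.pullback f).map (υ γ) := rfl

/-- The scheme of homomorphisms is compatible with base change. -/
theorem isHomScheme_bc (hH : IsHomScheme G Γ H υ) : IsHomScheme (Red.bc f G) Γ (Red.bc f H) (bcHom f υ) := by
  refine ⟨fun T φ => ?_⟩
  obtain ⟨t, ht, htu⟩ := hH.existsUnique ((Over.map f).obj T)
    ((Sga3B.BcPts.bcMulEquiv f T G).symm.toMonoidHom.comp φ)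
  replace ht : ∀ γ, t ≫ υ γ = (Sga3B.BcPts.bcEquiv f T G).symm (φ γ) := ht
  refine ⟨Sga3B.BcPts.bcEquiv f T H t, fun γ => ?_, fun t' ht' => ?_⟩
  · rw [bcHom_apply, ← Sga3B.BcPts.bcEquiv_comp, ht, Equiv.apply_symm_apply]
  · rw [← Equiv.symm_apply_eq]
    apply htu
    intro γ
    change _ = (Sga3B.BcPts.bcEquiv f T G).symm (φ γ)
    rw [← Sga3B.BcPts.bcEquiv_symm_comp]
    congr 1
    exact ht' γ

end bc

section stable

variable {k : Type u} [Field k] {G H : Over (Spec (CommRingCat.of k))} [GrpObj G] {Γ : Type*}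
  [Group Γ] [Finite Γ] {υ : Γ →* (H ⟶ G)}

/-- **An open subset of `Hom(Γ, G)` which is stable under conjugation is closed.** -/
theorem isClosed_of_stable [Smooth G.hom] [LocallyOfFinitePresentation H.hom]
    (hH : IsHomScheme G Γ H υ) (hn : (Nat.card Γ : k) ≠ 0) (P : Set H.left) (hP : IsOpen P)
    (hst : ∀ (Z : Over (Spec (CommRingCat.of k))) (x y : Z ⟶ H) (g : Z ⟶ G),
      (∀ γ, y ≫ υ γ = g * (x ≫ υ γ) * g⁻¹) → Set.range x.left ⊆ P → Set.range y.left ⊆ P) : IsClosed P := by
  let K := AlgebraicClosure k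
  let φ : Spec (CommRingCat.of K) ⟶ Spec (CommRingCat.of k) := Spec.map (CommRingCat.ofHom (algebraMap k K))
  have hφs : Surjective φ := by
    refine ⟨fun s => ⟨IsLocalRing.closedPoint K, ?_⟩⟩
    have hs : Subsingleton (Spec (CommRingCat.of k)) := inferInstanceAs (Subsingleton (PrimeSpectrum k))
    exact Subsingleton.elim _ _
  have hφf : Flat φ := inferInstance
  let p : (Red.bc φ H).left ⟶ H.left := pullback.fst H.hom φ
  have hpf : Flat p := inferInstanceAs (Flat (pullback.fst H.hom φ))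
  have hps : Surjective p := inferInstanceAs (Surjective (pullback.fst H.hom φ))
  have hpq : QuasiCompact p := inferInstanceAs (QuasiCompact (pullback.fst H.hom φ))
  have hq := Flat.isQuotientMap_of_surjective p
  rw [← hq.isClosed_preimage]
  have hsm : Smooth (Red.bc φ G).hom := inferInstanceAs (Smooth (pullback.snd G.hom φ))
  have hfp : LocallyOfFinitePresentation (Red.bc φ H).hom :=
    inferInstanceAs (LocallyOfFinitePresentation (pullback.snd H.hom φ))
  have hnK : Inv (Nat.card Γ) (Spec (CommRingCat.of K)) := by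
    have h1 : IsUnit ((Nat.card Γ : ℕ) : K) := by
      have h2 := (IsUnit.mk0 _ hn).map (algebraMap k K)
      rwa [map_natCast] at h2
    have h2 := h1.map (Scheme.ΓSpecIso (CommRingCat.of K)).inv.hom
    rwa [map_natCast] at h2
  refine isClosed_of_stable_algClosed (isHomScheme_bc φ hH) hnK _ (hP.preimage p.continuous) ?_
  intro x y g hxy hx
  have hsub : ∀ a b : (𝟙_ (Over (Spec (CommRingCat.of K)))).left, a = b := fun a b => by
    have hs : Subsingleton (Spec (CommRingCat.of K)) := inferInstanceAs (Subsingleton (PrimeSpectrum K))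
    exact Subsingleton.elim (α := Spec (CommRingCat.of K)) a b
  have hl : ∀ z : 𝟙_ (Over (Spec (CommRingCat.of K))) ⟶ Red.bc φ H,
      ((Sga3B.BcPts.bcEquiv φ _ H).symm z).left = z.left ≫ p := fun z => Sga3B.AdAff.bcEquiv_symm_left φ z
  have h1 := hst _ ((Sga3B.BcPts.bcEquiv φ _ H).symm x) ((Sga3B.BcPts.bcEquiv φ _ H).symm y)
    ((Sga3B.BcPts.bcEquiv φ _ G).symm g) (fun γ => by
      rw [← Sga3B.BcPts.bcEquiv_symm_comp, ← Sga3B.BcPts.bcEquiv_symm_comp]
      have h2 := hxy γ
      rw [bcHom_apply] at h2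
      rw [h2]
      have h3 : ∀ a b : 𝟙_ (Over (Spec (CommRingCat.of K))) ⟶ Red.bc φ G, (Sga3B.BcPts.bcEquiv φ _ G).symm (a * b) =
        (Sga3B.BcPts.bcEquiv φ _ G).symm a * (Sga3B.BcPts.bcEquiv φ _ G).symm b := fun a b =>
          (Sga3B.BcPts.bcMulEquiv φ _ G).symm.map_mul a b
      have h4 : ∀ a : 𝟙_ (Over (Spec (CommRingCat.of K))) ⟶ Red.bc φ G, (Sga3B.BcPts.bcEquiv φ _ G).symm (a⁻¹) =
        ((Sga3B.BcPts.bcEquiv φ _ G).symm a)⁻¹ := fun a =>
          map_inv (Sga3B.BcPts.bcMulEquiv φ _ G).symm a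
      rw [h3, h3, h4])
    (by
      rintro _ ⟨a, rfl⟩
      rw [hl, hsub a (IsLocalRing.closedPoint K)]
      simpa [pt] using hx)
  have h2 := h1 ⟨IsLocalRing.closedPoint K, rfl⟩
  rw [hl] at h2
  simpa [pt] using h2

/-- **An open subscheme of `Hom(Γ, G)` which is stable under conjugation is affine**, for `G` smooth and connected. -/
theorem isAffine_of_stable [Smooth G.hom] [QuasiCompact G.hom] [ConnectedSpace G.left]
    [LocallyOfFinitePresentation H.hom] (hH : IsHomScheme G Γ H υ) (hn : (Nat.card Γ : k) ≠ 0)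
    {P : Over (Spec (CommRingCat.of k))} (j : P ⟶ H) [IsOpenImmersion j.left]
    (hst : ∀ (Z : Over (Spec (CommRingCat.of k))) (x y : Z ⟶ H) (g : Z ⟶ G),
      (∀ γ, y ≫ υ γ = g * (x ≫ υ γ) * g⁻¹) → Set.range x.left ⊆ Set.range j.left →
        Set.range y.left ⊆ Set.range j.left) :
    IsAffine P.left := by
  have h1 := isClosed_of_stable hH hn (Set.range j.left) j.left.isOpenEmbedding.isOpen_range hst
  have hcl : IsClosedImmersion j.left := by
    exact IsClosedImmersion.of_isPreimmersion j.left h1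
  have hH := isAffine_homScheme hH hn
  exact isAffine_of_isAffineHom j.left

/-- `P ⟶ T` surjective and universally closed, `P` affine: `T` is affine. -/
theorem isAffine_of_surjective {P T : Over (Spec (CommRingCat.of k))} (p : P ⟶ T) [Surjective p.left]
    [UniversallyClosed p.left] [IsAffine P.left] : IsAffine T.left :=
  Groth.Agent.S0593.result P.left T.left p.left

end stable

end Groth.Agent.Sga3.H830.FibAff
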