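import Groth.Agent.Sga3B.MT.MemOps
import Groth.Agent.Sga3B.TorusIrr
import Groth.Agent.Sga3B.TorusBc
import Groth.Prelude.Def_SGA3x
import Mathlib.AlgebraicGeometry.Geometrically.Connected

/-!
# Maximal tori and the neutral component

`u : U₀ ⟶ G` an open subgroup with underlying set `SGA3x.neutralSet G`.  The points of tori of the base changes of
`G` lie in `U₀` and maximal tori of `G_X` are maximal tori of `U₀_X`.
-/

set_option autoImplicit false
universe u
open CategoryTheory MonoidalCategory CartesianMonoidalCategory MonObj GrpObj AlgebraicGeometry Limits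

namespace Groth.Agent.Sga3.H830.MTNeutral

open Groth.Agent.Sga3B Groth.Agent.Sga3B.MT Groth.Agent.Sga3B.BcPts

variable {S : Scheme.{u}} {G : Over S} [GrpObj G]

/-- the unit section of a base change -/
lemma one_left_fst (X : Over S) :
    (η[Red.bc X.hom G] : 𝟙_ (Over X.left) ⟶ _).left ≫ pullback.fst G.hom X.hom = (1 : X ⟶ G).left := by
  let a : Over.mk X.hom ⟶ Over.mk X.hom := 𝟙 _
  have h1 := bcPt_one (f := X.hom) (G := G) a
  have h2 := bcPt_left_fst (f := X.hom) (G := G) a 1
  rw [h1] at h2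
  have h3 : (1 : Over.mk a.left ⟶ Red.bc X.hom G).left =
      (η[Red.bc X.hom G] : 𝟙_ (Over X.left) ⟶ _).left := by
    rw [Hom.one_def, Over.comp_left]
    have h4 : (toUnit (Over.mk a.left : Over X.left)).left = 𝟙 X.left := by
      simp
      rfl
    rw [h4]
    exact Category.id_comp _
  rw [← h3]
  exact h2

/-- the fibres of a torus are connected -/
lemma isPreconnected_fibre {T : Over S} [GrpObj T] (hT : Red.IsTorus T) (s : S) :
    _root_.IsPreconnected (T.hom.base ⁻¹' {s}) := by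
  have := TorusIrr.geometricallyIrreducible_of_isTorus hT
  have h1 : GeometricallyIrreducible (pullback.snd T.hom (S.fromSpecResidueField s)) :=
    MorphismProperty.pullback_snd (P := @GeometricallyIrreducible) _ _ inferInstance
  have h2 : IrreducibleSpace ↥(pullback T.hom (S.fromSpecResidueField s)) :=
    GeometricallyIrreducible.irreducibleSpace_of_subsingleton (pullback.snd T.hom (S.fromSpecResidueField s))
  have h3 : IrreducibleSpace ↥(T.hom.fiber s) := h2
  have h : ConnectedSpace ↥(T.hom ⁻¹' {s}) :=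
    (T.hom.fiberHomeo s).surjective.connectedSpace (T.hom.fiberHomeo s).continuous
  exact (isConnected_iff_connectedSpace.mpr h).isPreconnected

/-- The points of a torus lie in the neutral set. -/
theorem mem_neutralSet {X : Over S} {T' : Over X.left} [GrpObj T'] (i' : T' ⟶ Red.bc X.hom G) [IsMonHom i']
    (hT' : Red.IsTorus T') (τ : T'.left) :
    (i'.left ≫ pullback.fst G.hom X.hom) τ ∈ SGA3x.neutralSet G := by
  set F : T'.left ⟶ G.left := i'.left ≫ pullback.fst G.hom X.hom with hF
  have hFG : F ≫ G.hom = T'.hom ≫ X.hom := by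
    have hw : i'.left ≫ pullback.snd G.hom X.hom = T'.hom := Over.w i'
    rw [hF, Category.assoc, pullback.condition, ← Category.assoc, hw]
  let x : X.left := T'.hom τ
  let s : S := X.hom x
  let e : T'.left := (η[T'] : 𝟙_ (Over X.left) ⟶ T').left x
  have he : T'.hom e = x := by
    have h1 : (η[T'] : 𝟙_ (Over X.left) ⟶ T').left ≫ T'.hom = 𝟙 X.left := Over.w η[T']
    change T'.hom ((η[T'] : 𝟙_ (Over X.left) ⟶ T').left x) = x
    rw [← Scheme.Hom.comp_apply, h1]
    rfl
  have hunit : F e = (η[G] : 𝟙_ (Over S) ⟶ G).left s := by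
    have h1 : (η[T'] : 𝟙_ (Over X.left) ⟶ T').left ≫ F = (1 : X ⟶ G).left := by
      rw [hF, ← Category.assoc, ← Over.comp_left, IsMonHom.one_hom]
      exact one_left_fst X
    have h2 : (1 : X ⟶ G).left = X.hom ≫ (η[G] : 𝟙_ (Over S) ⟶ G).left := by
      rw [Hom.one_def, Over.comp_left]
      congr 1
    change F ((η[T'] : 𝟙_ (Over X.left) ⟶ T').left x) = (η[G] : 𝟙_ (Over S) ⟶ G).left (X.hom x)
    rw [← Scheme.Hom.comp_apply, h1, h2, Scheme.Hom.comp_apply]
  have hC := isPreconnected_fibre hT' x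
  have h3 : F '' (T'.hom.base ⁻¹' {x}) ⊆ connectedComponentIn (G.hom.base ⁻¹' {s})
      ((η[G] : 𝟙_ (Over S) ⟶ G).left s) := by
    refine (hC.image F F.continuous.continuousOn).subset_connectedComponentIn ⟨e, he, hunit⟩ ?_
    rintro _ ⟨y, hy, rfl⟩
    have hy' : T'.hom y = x := hy
    change G.hom (F y) = s
    rw [← Scheme.Hom.comp_apply, hFG, Scheme.Hom.comp_apply, hy']
  exact Set.mem_iUnion.2 ⟨s, h3 ⟨τ, rfl, rfl⟩⟩

variable {U₀ : Over S} (u : U₀ ⟶ G) [IsOpenImmersion u.left]

omit [GrpObj G] in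
/-- Factorisation through an open subscheme. -/
lemma exists_lift_open {Y : Over S} (h : Y ⟶ G) (hr : ∀ y : Y.left, h.left y ∈ Set.range u.left) :
    ∃ h' : Y ⟶ U₀, h' ≫ u = h := by
  have hr' : Set.range h.left ⊆ Set.range u.left := by
    rintro _ ⟨y, rfl⟩
    exact hr y
  refine ⟨Over.homMk (IsOpenImmersion.lift u.left h.left hr') ?_, ?_⟩
  · have h1 := Over.w u
    rw [← h1, ← Category.assoc, IsOpenImmersion.lift_fac]
    exact Over.w h
  · ext1
    exact IsOpenImmersion.lift_fac _ _ _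

/-- The points of tori of the base changes of `G` lie in `U₀`. -/
theorem exists_lift (hu : Set.range u.left = SGA3x.neutralSet G) {X : Over S} {T' : Over X.left} [GrpObj T']
    (i' : T' ⟶ Red.bc X.hom G) [IsMonHom i'] (hT' : Red.IsTorus T') {Y : Over S} (y : Y ⟶ X) (h : Y ⟶ G)
    (hm : MemAt (f := X.hom) i' y h) : ∃ h' : Y ⟶ U₀, h' ≫ u = h := by
  refine exists_lift_open u h fun y₀ => ?_
  obtain ⟨t, -, ht⟩ := (memAt_iff' _ _ _).1 hm
  rw [hu, ← ht, Scheme.Hom.comp_apply]
  exact mem_neutralSet i' hT' _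

omit [GrpObj G] [IsOpenImmersion u.left] in
/-- `MemAt` for a composition. -/
lemma memAt_map_iff [Mono u] {S' : Scheme.{u}} {f : S' ⟶ S} {T' : Over S'} (j : T' ⟶ Red.bc f U₀) {Y : Over S}
    (y : Y ⟶ Over.mk f) (h : Y ⟶ G) :
    MemAt (j ≫ (Over.pullback f).map u) y h ↔ ∃ h' : Y ⟶ U₀, h' ≫ u = h ∧ MemAt j y h' := by
  have hfst : ((Over.pullback f).map u).left ≫ pullback.fst G.hom f = pullback.fst U₀.hom f ≫ u.left :=
    (Groth.Agent.Sga3B.Parab.EtHom.isPullback_map f u).w.symm
  rw [memAt_iff']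
  constructor
  · rintro ⟨t, ht1, ht2⟩
    have hw : j.left ≫ pullback.snd U₀.hom f = T'.hom := Over.w j
    refine ⟨Over.homMk (t ≫ j.left ≫ pullback.fst U₀.hom f) ?_, ?_, ?_⟩
    · rw [Category.assoc, Category.assoc, pullback.condition, reassoc_of% hw, reassoc_of% ht1]
      exact Over.w y
    · ext1
      change (t ≫ j.left ≫ pullback.fst U₀.hom f) ≫ u.left = h.left
      rw [← ht2, Over.comp_left, Category.assoc, Category.assoc, Category.assoc, hfst]
    · exact (memAt_iff' _ _ _).2 ⟨t, ht1, rfl⟩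
  · rintro ⟨h', rfl, hm⟩
    obtain ⟨t, ht1, ht2⟩ := (memAt_iff' _ _ _).1 hm
    refine ⟨t, ht1, ?_⟩
    rw [Over.comp_left, Category.assoc, hfst, Over.comp_left, ← ht2]
    simp only [Category.assoc]

section Grp

variable [GrpObj U₀] [IsMonHom u]

/-- A maximal torus of `G_X` is a maximal torus of `U₀_X`. -/
theorem exists_maximalTorus_neutral (hu : Set.range u.left = SGA3x.neutralSet G) {X : Over S} {T' : Over X.left}
    [GrpObj T'] (i' : T' ⟶ Red.bc X.hom G) (hi' : Red.IsMaximalTorus i') :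
    ∃ j' : T' ⟶ Red.bc X.hom U₀, Red.IsMaximalTorus j' ∧ j' ≫ (Over.pullback X.hom).map u = i' := by
  have hmu : Mono u := (Over.forget S).mono_of_mono_map (inferInstanceAs (Mono u.left))
  have hmon := hi'.1
  have hmo := hi'.2.1
  -- the factorisation
  obtain ⟨j', hj'⟩ : ∃ j' : T' ⟶ Red.bc X.hom U₀, j' ≫ (Over.pullback X.hom).map u = i' := by
    have h1 : MemAt (f := X.hom) i' (MemAt.strHom X.hom T') ((bcEquiv X.hom T' G).symm i') :=
      (MemAt.iff_of_over i' T' i').2 ⟨𝟙 _, Category.id_comp _⟩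
    obtain ⟨h', hh'⟩ := exists_lift (X := X) u hu i' hi'.2.2.1 _ _ h1
    refine ⟨bcEquiv X.hom T' U₀ h', ?_⟩
    rw [← bcEquiv_comp, hh', Equiv.apply_symm_apply]
  have hm1 : Mono ((Over.pullback X.hom).map u) := inferInstance
  have hm2 : IsMonHom ((Over.pullback X.hom).map u) := inferInstance
  subst hj'
  have hj : IsMonHom j' := Sga3B.Pts.isMonHom_of_points j' fun Z x y => by
    rw [← cancel_mono ((Over.pullback X.hom).map u)]
    simp only [MonObj.mul_comp, Category.assoc]
  refine ⟨j', ⟨hj, mono_of_mono j' ((Over.pullback X.hom).map u), hi'.2.2.1, ?_⟩, rfl⟩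
  intro s T'' _ j _ _ f hT'' hf
  have hm3 : Mono ((Over.pullback (Red.geomPt s)).map ((Over.pullback X.hom).map u)) := inferInstance
  have hm4 : IsMonHom ((Over.pullback (Red.geomPt s)).map ((Over.pullback X.hom).map u)) := inferInstance
  refine hi'.2.2.2 s T'' (j ≫ (Over.pullback (Red.geomPt s)).map ((Over.pullback X.hom).map u)) f hT'' ?_
  rw [← Category.assoc, hf, ← Functor.map_comp]

end Grp

end Groth.Agent.Sga3.H830.MTNeutral
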