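import Groth.Agent.Sga3.H219.NeutralK
import Groth.Agent.Sga3.H665.ActNeutral
import Groth.Agent.Sga3.H830.MTTrans
import Groth.Agent.Sga3.H830.TorBc

/-!
# Transitivity of the unipotent radical on the geometric points of the scheme of maximal tori

* `P1`: sections of a base change;
* `memAt_cj_iff`: a maximal torus is stable under conjugation by a point which commutes with it modulo a central
  subgroup;
* `exists_act_eq`: transitivity.
-/

set_option autoImplicit false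
universe u
open CategoryTheory MonoidalCategory CartesianMonoidalCategory MonObj GrpObj AlgebraicGeometry Limits
open TensorProduct

namespace Groth.Agent.Sga3.H830.Trans3

open Groth.Agent.Sga3B Groth.Agent.Sga3B.MT
open Groth.Agent.Books.AffBridge Groth.Agent.Books.AffBridge2

section P1

variable {S S' : Scheme.{u}} {f : S' ⟶ S} {G Q : Over S}

/-- The section of `G_{S'}` given by a point of `G` with values in `S'`. -/
noncomputable def P1 (c : Over.mk f ⟶ G) : 𝟙_ (Over S') ⟶ Red.bc f G := toE f _ ≫ bcPt (𝟙 _) c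

lemma P1_fst (c : Over.mk f ⟶ G) : (P1 c).left ≫ pullback.fst G.hom f = c.left := by
  have h := bcPt_left_fst (𝟙 (Over.mk f)) c
  rw [P1, Over.comp_left, Category.assoc, h]
  have h1 : (toE f (𝟙_ (Over S'))).left = 𝟙 S' := rfl
  rw [h1]
  exact Category.id_comp _

lemma P1_snd (c : Over.mk f ⟶ G) : (P1 c).left ≫ pullback.snd G.hom f = 𝟙 S' := Over.w (P1 c)

lemma P1_injective : Function.Injective (P1 : (Over.mk f ⟶ G) → (𝟙_ (Over S') ⟶ Red.bc f G)) := by
  intro a b h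
  ext1
  rw [← P1_fst a, ← P1_fst b, h]

lemma hom_ext {X : Over S'} (a b : X ⟶ Red.bc f G)
    (h : a.left ≫ pullback.fst G.hom f = b.left ≫ pullback.fst G.hom f) : a = b := by
  ext1
  apply pullback.hom_ext h
  exact (Over.w a).trans (Over.w b).symm

lemma P1_surjective (t : 𝟙_ (Over S') ⟶ Red.bc f G) : ∃ c : Over.mk f ⟶ G, P1 c = t := by
  have hw : t.left ≫ pullback.snd G.hom f = 𝟙 S' := Over.w t
  refine ⟨Over.homMk (t.left ≫ pullback.fst G.hom f) ?_, ?_⟩
  · rw [Category.assoc, pullback.condition, ← Category.assoc, hw]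
    exact Category.id_comp _
  · refine hom_ext _ _ ?_
    rw [P1_fst]
    rfl

lemma P1_comp (c : Over.mk f ⟶ G) (q : G ⟶ Q) : P1 (c ≫ q) = P1 c ≫ (Over.pullback f).map q := by
  refine hom_ext _ _ ?_
  have hfst : ((Over.pullback f).map q).left ≫ pullback.fst Q.hom f = pullback.fst G.hom f ≫ q.left :=
    (Groth.Agent.Sga3B.Parab.EtHom.isPullback_map f q).w.symm
  rw [P1_fst, Over.comp_left, Over.comp_left, Category.assoc, hfst, ← Category.assoc, P1_fst]

lemma P1_mul [GrpObj G] (a b : Over.mk f ⟶ G) : P1 (a * b) = P1 a * P1 b := by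
  rw [P1, bcPt_mul, MonObj.comp_mul]
  rfl

lemma P1_one [GrpObj G] : P1 (1 : Over.mk f ⟶ G) = 1 := by
  rw [P1, bcPt_one, MonObj.comp_one]

lemma P1_inv [GrpObj G] (a : Over.mk f ⟶ G) : P1 a⁻¹ = (P1 a)⁻¹ := by
  rw [P1, bcPt_inv, GrpObj.comp_inv]
  rfl

lemma comp_cj_P1 [GrpObj G] (c : Over.mk f ⟶ G) (x : 𝟙_ (Over S') ⟶ Red.bc f G) :
    x ≫ cj c = P1 c * x * (P1 c)⁻¹ := comp_cj c x

lemma memAt_id_iff {T : Over S'} (t : T ⟶ Red.bc f G) (c : Over.mk f ⟶ G) :
    MemAt t (𝟙 (Over.mk f)) c ↔ ∃ x : 𝟙_ (Over S') ⟶ T, x ≫ t = P1 c := by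
  rw [memAt_iff']
  constructor
  · rintro ⟨x, hx1, hx2⟩
    refine ⟨Over.homMk x hx1, hom_ext _ _ ?_⟩
    rw [P1_fst, ← hx2]
    exact Category.assoc _ _ _
  · rintro ⟨x, hx⟩
    refine ⟨x.left, Over.w x, ?_⟩
    rw [← P1_fst c, ← hx]
    exact (Category.assoc _ _ _).symm

end P1

section conj

variable {K : Type u} [Field K] [IsAlgClosed K] {S : Scheme.{u}} {f : Spec (CommRingCat.of K) ⟶ S}
  {U Q : Over S} [GrpObj U] [GrpObj Q]

/-- A maximal torus is stable under conjugation by a point which commutes with it modulo a central subgroup. -/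
theorem memAt_cj_iff (q : U ⟶ Q) [IsMonHom q]
    (hcen : ∀ z g : Over.mk f ⟶ U, z ≫ q = 1 → z * g = g * z) {T : Over (Spec (CommRingCat.of K))} [GrpObj T]
    (j : T ⟶ Red.bc f U) (hj : Red.IsMaximalTorus j) (m : Over.mk f ⟶ U)
    (h1 : ∀ t s : Over.mk f ⟶ U, MemAt j (𝟙 _) t → MemAt j (𝟙 _) s → (t ≫ q) * (s ≫ q) = (s ≫ q) * (t ≫ q))
    (h2 : ∀ t : Over.mk f ⟶ U, MemAt j (𝟙 _) t → (m ≫ q) * (t ≫ q) = (t ≫ q) * (m ≫ q))
    {Y : Over S} (y : Y ⟶ Over.mk f) (h : Y ⟶ U) : MemAt (j ≫ cj m) y h ↔ MemAt j y h := by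
  have hj' : Red.IsMaximalTorus (j ≫ cj m) := isMaximalTorus_comp_cj m j hj
  have i1 := hj.1
  have i2 := hj'.1
  have hq' : IsMonHom ((Over.pullback f).map q) := inferInstance
  have hcen' : ∀ (z g : 𝟙_ (Over (Spec (CommRingCat.of K))) ⟶ Red.bc f U),
      z ≫ (Over.pullback f).map q = 1 → z * g = g * z := by
    intro z g hz
    obtain ⟨z, rfl⟩ := P1_surjective z
    obtain ⟨g, rfl⟩ := P1_surjective g
    rw [← P1_comp, ← P1_one] at hz
    rw [← P1_mul, ← P1_mul, hcen z g (P1_injective hz)]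
  have hc : ∀ (t r : 𝟙_ (Over (Spec (CommRingCat.of K))) ⟶ T),
      (t ≫ j ≫ (Over.pullback f).map q) * (r ≫ (j ≫ cj m) ≫ (Over.pullback f).map q) =
        (r ≫ (j ≫ cj m) ≫ (Over.pullback f).map q) * (t ≫ j ≫ (Over.pullback f).map q) := by
    intro t r
    obtain ⟨t₀, ht₀⟩ := P1_surjective (t ≫ j)
    obtain ⟨r₀, hr₀⟩ := P1_surjective (r ≫ j)
    have ht1 : MemAt j (𝟙 _) t₀ := (memAt_id_iff j t₀).2 ⟨t, ht₀.symm⟩
    have hr1 : MemAt j (𝟙 _) r₀ := (memAt_id_iff j r₀).2 ⟨r, hr₀.symm⟩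
    have e1 : t ≫ j ≫ (Over.pullback f).map q = P1 (t₀ ≫ q) := by
      rw [← Category.assoc, ← ht₀, P1_comp]
    have e2 : r ≫ (j ≫ cj m) ≫ (Over.pullback f).map q = P1 (r₀ ≫ q) := by
      rw [← Category.assoc, ← Category.assoc, ← hr₀, comp_cj_P1, ← P1_inv, ← P1_mul, ← P1_mul, ← P1_comp,
        MonObj.mul_comp, MonObj.mul_comp, GrpObj.inv_comp, h2 r₀ hr1, mul_inv_cancel_right]
    rw [e1, e2, ← P1_mul, ← P1_mul, h1 t₀ r₀ ht1 hr1]
  obtain ⟨φ, hφ⟩ := H784.Conj.exists_iso_of_commute j (j ≫ cj m) hj hj' (fun t r =>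
    H784.Commute.commute_of_central ((Over.pullback f).map q) hcen' j (j ≫ cj m) hj.2.2.1 hj'.2.2.1 hc t r)
  rw [memAt_iff, memAt_iff]
  constructor
  · rintro ⟨x, hx⟩
    refine ⟨x ≫ φ.inv, ?_⟩
    have h3 : φ.inv ≫ j = j ≫ cj m := by
      rw [Iso.inv_comp_eq, hφ]
    rw [← hx, Category.assoc, h3]
  · rintro ⟨x, hx⟩
    refine ⟨x ≫ φ.hom, ?_⟩
    rw [Category.assoc, hφ, hx]

end conj

section spec

open Sga3B.RG Sga3B.RG.BcPt Sga3B.RG.BrPts Sga3B.BcSpec892 Sga3B.PtData Sga3B.PtMor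

variable {k K : Type u} [Field k] [Field K] [Algebra k K] {C : Type u} [CommRing C] [HopfAlgebra k C]

lemma unitIso_hom_left : (unitIso K).hom.left = 𝟙 (Spec (CommRingCat.of K)) := by
  have h1 := congrArg (fun z => z.left) (unitIso_hom_toUnit K)
  have h2 : (toUnit (SpecOver K K)).left = 𝟙 (Spec (CommRingCat.of K)) := by
    refine Eq.trans ?_ (Spec.map_id _)
    rfl
  have h3 : (unitIso K).hom.left ≫ (toUnit (SpecOver K K)).left = 𝟙 (Spec (CommRingCat.of K)) := h1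
  rw [h2] at h3
  exact (Category.comp_id _).symm.trans h3

/-- Comparison of the points of `Spec C` with values in `K` and of the points of `Spec (K ⊗ C)`. -/
lemma ptEquiv_toBc (x : WithConv (C →ₐ[k] K)) :
    ptEquiv K (K ⊗[k] C) (ptL x) ≫ toBc k K C = P1 (f := q k K) (specMap k x.ofConv) := by
  refine hom_ext _ _ ?_
  rw [P1_fst, ptEquiv_apply, Category.assoc]
  have h1 : specMap K (ptL x).ofConv ≫ toBc k K C =
    (baseStr (C := C) K (Iso.refl (AffTest.sp k C))).e K (res (WithConv.toConv (ptL x).ofConv)) := comp_toBc _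
  have h2 : res (WithConv.toConv (ptL x).ofConv) = x := by
    apply WithConv.ofConv_injective
    ext a
    exact (ptL_tmul x 1 a).trans (_root_.one_mul _)
  rw [h1, h2]
  have h3 := H665.ActNeutral.bcEquiv_symm_left (q k K)
    ((baseStr (C := C) K (Iso.refl (AffTest.sp k C))).e K x)
  have h4 : (BcPts.bcEquiv (q k K) _ _).symm ((baseStr (C := C) K (Iso.refl (AffTest.sp k C))).e K x) =
      (mapIso (L := k) (L' := K) K).hom ≫ (Spec.mapMulEquiv x ≫ 𝟙 _) :=
    (BcPts.bcEquiv (q k K) _ _).symm_apply_apply _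
  rw [h4] at h3
  rw [Over.comp_left, unitIso_hom_left, Category.assoc]
  refine (Category.id_comp _).trans (h3.symm.trans ?_)
  rw [Over.comp_left, Over.comp_left, mapIso_hom_left]
  exact (Category.id_comp _).trans (Category.comp_id _)

variable (k K C) in
/-- The points of `Spec C` with values in `K` as points of the Hopf algebra `K ⊗ C`. -/
noncomputable def pts : (SpecOver k K ⟶ SpecOver k C) ≃* Pt K (K ⊗[k] C) := (rptEquiv k C K).symm.trans ptL

lemma ptEquiv_pts (x : SpecOver k K ⟶ SpecOver k C) :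
    ptEquiv K (K ⊗[k] C) (pts k K C x) ≫ toBc k K C = P1 (f := q k K) x := by
  obtain ⟨x, rfl⟩ := (rptEquiv k C K).surjective x
  have h : pts k K C (rptEquiv k C K x) = ptL x := by
    change ptL ((rptEquiv k C K).symm (rptEquiv k C K x)) = _
    rw [MulEquiv.symm_apply_apply]
  rw [h, ptEquiv_toBc]
  rfl

lemma pts_apply (x : SpecOver k K ⟶ SpecOver k C) (c : C) :
    pts k K C x (1 ⊗ₜ c) = (specPreimage k x) c :=
  (ptL_tmul _ _ _).trans (_root_.one_mul _)

/-- The image of a torus lies in a maximal torus. -/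
theorem exists_max_above [IsAlgClosed K] [Algebra.FiniteType k C] {U : Over (Spec (CommRingCat.of k))} [GrpObj U]
    (p : U ⟶ SpecOver k C) [IsMonHom p] {T : Over (Spec (CommRingCat.of K))} [GrpObj T] (hT : Red.IsTorus T)
    (j : T ⟶ Red.bc (q k K) U) [IsMonHom j] :
    ∃ M : Subgroup (Pt K (K ⊗[k] C)), IsMaxTorusSub M ∧
      ∀ t : SpecOver k K ⟶ U, MemAt (f := q k K) j (𝟙 _) t → pts k K C (t ≫ p) ∈ M := by
  have h1 : IsMonHom (inv (toBc k K C)) := inferInstanceAs (IsMonHom (asIso (toBc k K C)).inv)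
  have h2 : IsMonHom ((Over.pullback (q k K)).map p) := inferInstance
  obtain ⟨M, hM, h⟩ := H784.Conj.exists_max_above hT (j ≫ (Over.pullback (q k K)).map p ≫ inv (toBc k K C))
  refine ⟨M, hM, fun t ht => ?_⟩
  obtain ⟨x, hx⟩ := (memAt_id_iff (f := q k K) j t).1 ht
  have h3 := h x
  have h4 : x ≫ j ≫ (Over.pullback (q k K)).map p ≫ inv (toBc k K C) = ptEquiv K (K ⊗[k] C) (pts k K C (t ≫ p)) := by
    rw [← Category.assoc, ← Category.assoc, hx, ← P1_comp, IsIso.comp_inv_eq, ptEquiv_pts]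
    rfl
  rw [h4, MulEquiv.symm_apply_apply] at h3
  exact h3

end spec

section torus

open MTPts MTNeutral

/-- The maximal torus of the neutral component given by a point of the scheme of maximal tori. -/
theorem exists_torus_neutral {S : Scheme.{u}} {G : Over S} [GrpObj G] {𝒯 : Over S} {Tu : Over 𝒯.left} [GrpObj Tu]
    {iu : Tu ⟶ Red.bc 𝒯.hom G} {U₀ : Over S} [GrpObj U₀] (u : U₀ ⟶ G) [IsMonHom u] [IsOpenImmersion u.left]
    (hbc : TorBc G) (h𝒯 : SGA3x.RepresentsMaxTori G 𝒯 Tu iu)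
    (hu : Set.range u.left = SGA3x.neutralSet G) {X : Over S} (w : X ⟶ 𝒯) :
    ∃ (T : Over X.left) (_ : GrpObj T) (j : T ⟶ Red.bc X.hom U₀), Red.IsMaximalTorus j ∧
      ∀ (Y : Over S) (y : Y ⟶ X) (g : Y ⟶ G),
        g ∈ D iu (y ≫ w) ↔ ∃ h : Y ⟶ U₀, h ≫ u = g ∧ MemAt (f := X.hom) j y h := by
  have hmu : Mono u := (Over.forget _).mono_of_mono_map (inferInstanceAs (Mono u.left))
  obtain ⟨T, _, i, hi, hT⟩ := exists_torus hbc h𝒯 w
  obtain ⟨j, hj, rfl⟩ := exists_maximalTorus_neutral u hu i hi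
  refine ⟨T, inferInstance, j, hj, fun Y y g => ?_⟩
  rw [← hT]
  exact memAt_map_iff u (f := X.hom) j y g

end torus

section field

open MTPts MTNeutral H665.Act Sga3B.RG Sga3B.RG.BrPts
open Sga3B.PtData (q)

/-- Over a field, the neutral set is the connected component of the unit point. -/
lemma neutralSet_eq {k : Type u} [Field k] (G : Over (Spec (CommRingCat.of k))) [GrpObj G] :
    SGA3x.neutralSet G = connectedComponent (Books.AlgPts.pt η[G]) := by
  refine subset_antisymm (H665.ActNeutral.neutralSet_subset G) fun x hx => ?_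
  have hsub : Subsingleton (Spec (CommRingCat.of k)) := inferInstanceAs (Subsingleton (PrimeSpectrum k))
  refine Set.mem_iUnion.2 ⟨(IsLocalRing.closedPoint k : Spec (CommRingCat.of k)), ?_⟩
  have h1 : (G.hom.base ⁻¹' {(𝟙_ (Over (Spec (CommRingCat.of k)))).hom.base
      (IsLocalRing.closedPoint k : Spec (CommRingCat.of k))}) = Set.univ := by
    refine Set.eq_univ_of_forall fun y => ?_
    exact @Subsingleton.elim (Spec (CommRingCat.of k)) hsub _ _
  rw [h1, connectedComponentIn_univ]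
  exact hx

/-- An étale cover of the spectrum of an algebraically closed field has a section. -/
lemma exists_section {K : Type u} [Field K] [IsAlgClosed K] {S : Scheme.{u}} {f : Spec (CommRingCat.of K) ⟶ S}
    {X : Over S} (e : X ⟶ Over.mk f) [Etale e.left] [Surjective e.left] : ∃ σ : Over.mk f ⟶ X, σ ≫ e = 𝟙 _ := by
  let X' : Over (Spec (CommRingCat.of K)) := Over.mk e.left
  have h1 : LocallyOfFiniteType X'.hom := inferInstanceAs (LocallyOfFiniteType e.left)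
  have hne : (Set.univ : Set X'.left).Nonempty := by
    obtain ⟨z, -⟩ := e.left.surjective (IsLocalRing.closedPoint K)
    exact ⟨z, trivial⟩
  obtain ⟨x, -⟩ := Books.AlgPts.exists_pt_mem hne isClosed_univ.isLocallyClosed
  have hx : x.left ≫ e.left = 𝟙 _ := Over.w x
  refine ⟨Over.homMk x.left ?_, ?_⟩
  · rw [← Over.w e, ← Category.assoc, hx]
    exact Category.id_comp _
  · ext1
    exact hx

variable {k : Type u} [Field k] {G : Over (Spec (CommRingCat.of k))} [GrpObj G] [LocallyOfFiniteType G.hom]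
  {𝒯 : Over (Spec (CommRingCat.of k))} {Tu : Over 𝒯.left} [GrpObj Tu] {iu : Tu ⟶ Red.bc 𝒯.hom G}
  {U : Over (Spec (CommRingCat.of k))} [GrpObj U] (u : U ⟶ G) [IsMonHom u] [IsOpenImmersion u.left]
  {K : Type u} [Field K] [IsAlgClosed K] [Algebra k K]

omit [GrpObj Tu] [GrpObj G] [LocallyOfFiniteType G.hom] in
lemma mem_D_iff_inTorus {Y : Over (Spec (CommRingCat.of k))} (v : Y ⟶ 𝒯) (g : Y ⟶ G) :
    g ∈ D iu v ↔ InTorus iu v g := by
  rw [mem_D, memAt_iff']
  rfl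

/-- Two geometric points of the scheme of maximal tori are conjugate under the neutral component. -/
theorem exists_act_eq_neutral (h𝒯 : SGA3x.RepresentsMaxTori G 𝒯 Tu iu) (hbc : H665.Act.TorBc G)
    {r : 𝒯 ⊗ G ⟶ 𝒯} (hr : IsAct iu r) [Smooth U.hom] [QuasiCompact U.hom]
    (hu : Set.range u.left = connectedComponent (Books.AlgPts.pt η[G])) (v w : SpecOver k K ⟶ 𝒯) :
    ∃ x : SpecOver k K ⟶ U, lift v (x ≫ u) ≫ r = w := by
  have hsep := Groth.Agent.Localalg.GrpSchComp2.isSeparated_hom U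
  obtain ⟨X', e, he, hs, g, hg⟩ := MTTrans.exists_etale_isConj u (TorBc.mtPts_torBc G) h𝒯
    (hu.trans (neutralSet_eq G).symm) v w
  obtain ⟨σ, hσ⟩ : ∃ σ : SpecOver k K ⟶ X', σ ≫ e = 𝟙 _ := @exists_section K _ _ _ (SpecOver k K).hom X' e he hs
  have hg' := hg.comp σ
  have e1 : σ ≫ e ≫ v = v := by
    rw [← Category.assoc, hσ]
    exact Category.id_comp _
  have e2 : σ ≫ e ≫ w = w := by
    rw [← Category.assoc, hσ]
    exact Category.id_comp _
  rw [e1, e2] at hg'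
  refine ⟨(σ ≫ g)⁻¹, ext_of_inTorus h𝒯 hbc _ _ fun Y p h => ?_⟩
  rw [← Category.assoc, comp_lift, hr.inTorus_iff, ← mem_D_iff_inTorus (iu := iu) (p ≫ w), hg' Y p h,
    mem_D_iff_inTorus, GrpObj.inv_comp, GrpObj.comp_inv, _root_.inv_inv, Category.assoc]

/-- A geometric point of the scheme of maximal tori is fixed by the points which commute with the torus modulo a
central subgroup. -/
theorem act_eq_self (h𝒯 : SGA3x.RepresentsMaxTori G 𝒯 Tu iu) (hbc : H665.Act.TorBc G)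
    {r : 𝒯 ⊗ G ⟶ 𝒯} (hr : IsAct iu r)
    (hu : Set.range u.left = connectedComponent (Books.AlgPts.pt η[G])) (w : SpecOver k K ⟶ 𝒯)
    {C : Type u} [CommRing C] [HopfAlgebra k C] [Algebra.FiniteType k C] (p : U ⟶ SpecOver k C) [IsMonHom p]
    (hcen : ∀ z g : SpecOver k K ⟶ U, z ≫ p = 1 → z * g = g * z) :
    ∃ M : Subgroup (Pt K (K ⊗[k] C)), IsMaxTorusSub M ∧
      ∀ m : SpecOver k K ⟶ U, pts k K C (m ≫ p) ∈ M → lift w (m ≫ u) ≫ r = w := by
  have hu' := hu.trans (neutralSet_eq G).symm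
  have hmu : Mono u := (Over.forget _).mono_of_mono_map (inferInstanceAs (Mono u.left))
  obtain ⟨T, iT, j, hj, hT⟩ := exists_torus_neutral u (TorBc.mtPts_torBc G) h𝒯 hu' w
  have j1 := hj.1
  obtain ⟨M, hM, hMt⟩ := @exists_max_above k K _ _ _ C _ _ _ _ U _ p _ T iT hj.2.2.1 j j1
  refine ⟨M, hM, fun m hm => ?_⟩
  have key : ∀ {Y : Over (Spec (CommRingCat.of k))} (y : Y ⟶ SpecOver k K) (h : Y ⟶ U),
      MemAt (f := (SpecOver k K).hom) j y ((y ≫ m)⁻¹ * h * (y ≫ m)) ↔ MemAt (f := (SpecOver k K).hom) j y h := by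
    intro Y y h
    have h1 := @memAt_cj_iff K _ _ _ (SpecOver k K).hom U (SpecOver k C) _ _ p _ hcen T iT j hj m
      (fun t s ht hs => ?_) (fun t ht => ?_) Y y h
    · exact (memAt_comp_cj (f := (SpecOver k K).hom) m j y h).symm.trans h1
    · apply (pts k K C).injective
      have a := H784.Conj.mul_comm_of_mem hM (hMt t ht) (hMt s hs)
      rwa [← map_mul, ← map_mul] at a
    · apply (pts k K C).injective
      have a := H784.Conj.mul_comm_of_mem hM hm (hMt t ht)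
      rwa [← map_mul, ← map_mul] at a
  refine ext_of_inTorus h𝒯 hbc _ _ fun Y y h => ?_
  rw [← Category.assoc, comp_lift, hr.inTorus_iff, ← mem_D_iff_inTorus, ← mem_D_iff_inTorus, hT, hT]
  have e : y ≫ m ≫ u = (y ≫ m) ≫ u := (Category.assoc _ _ _).symm
  constructor
  · rintro ⟨h', e1, h2⟩
    refine ⟨(y ≫ m)⁻¹ * h' * (y ≫ m), ?_, (key y h').2 h2⟩
    rw [MonObj.mul_comp, MonObj.mul_comp, GrpObj.inv_comp, e1, e]
    group
  · rintro ⟨h', rfl, h2⟩
    refine ⟨(y ≫ m) * h' * (y ≫ m)⁻¹, ?_, (key y _).1 ?_⟩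
    · rw [MonObj.mul_comp, MonObj.mul_comp, GrpObj.inv_comp, e]
    · convert h2 using 1
      group

/-- **Transitivity.** -/
theorem exists_act_eq (h𝒯 : SGA3x.RepresentsMaxTori G 𝒯 Tu iu) (hbc : H665.Act.TorBc G)
    {r : 𝒯 ⊗ G ⟶ 𝒯} (hr : IsAct iu r) [Smooth U.hom] [QuasiCompact U.hom]
    (hu : Set.range u.left = connectedComponent (Books.AlgPts.pt η[G]))
    {C : Type u} [CommRing C] [HopfAlgebra k C] [Algebra.FiniteType k C] (p : U ⟶ SpecOver k C) [IsMonHom p]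
    [Surjective p.left]
    (hcen : ∀ z g : SpecOver k K ⟶ U, z ≫ p = 1 → z * g = g * z)
    {r' : 𝒯 ⊗ SpecOver k C ⟶ 𝒯} (hr' : (𝒯 ◁ p) ≫ r' = (𝒯 ◁ u) ≫ r)
    {H : Type u} [CommRing H] [HopfAlgebra k H] (π : C →ₐc[k] H) (hπ : Function.Surjective π)
    (hM : ∀ M : Subgroup (Pt K (K ⊗[k] C)), IsMaxTorusSub M →
        ∀ x, ∃ u m, m ∈ M ∧ x = u * m ∧ ∀ c ∈ RingHom.ker π, u (1 ⊗ₜ c) = 0)
    (v w : SpecOver k K ⟶ 𝒯) :
    ∃ x : SpecOver k K ⟶ SpecOver k H,
      lift v x ≫ (𝒯 ◁ specMap k (π : C →ₐ[k] H)) ≫ r' = w := by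
  have hlift : ∀ {Y : Over (Spec (CommRingCat.of k))} (v : Y ⟶ 𝒯) (x : Y ⟶ U),
      lift v (x ≫ p) ≫ r' = lift v (x ≫ u) ≫ r := by
    intro Y v x
    have h1 : ∀ {X : Over (Spec (CommRingCat.of k))} (c : U ⟶ X), lift v (x ≫ c) = lift v x ≫ (𝒯 ◁ c) :=
      fun c => (lift_whiskerLeft _ _ _).symm
    rw [h1, h1, Category.assoc, hr', Category.assoc]
  obtain ⟨x, hx⟩ := exists_act_eq_neutral u h𝒯 hbc hr hu v w
  obtain ⟨M, hMm, hMs⟩ := act_eq_self u h𝒯 hbc hr hu w p hcen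
  obtain ⟨b, m, hm, hxm, hb⟩ := hM M hMm (pts k K C (x ≫ p))
  have hlftU : LocallyOfFiniteType U.hom := inferInstance
  obtain ⟨m', hm'⟩ := H219.NeutralK.exists_point_lift K (Iso.refl _) p ((pts k K C).symm m)
  have h1 : pts k K C (m' ≫ p) = m := by rw [hm', MulEquiv.apply_symm_apply]
  have h2 : lift w (m' ≫ u) ≫ r = w := hMs m' (by rw [h1]; exact hm)
  -- `w = v · (x m'⁻¹)`
  have h3 : lift v ((x * m'⁻¹) ≫ u) ≫ r = w := by
    have h4 : lift (lift v (x ≫ u) ≫ r) (m'⁻¹ ≫ u) ≫ r = lift w (m'⁻¹ ≫ u) ≫ r := by rw [hx]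
    rw [hr.act_mul, ← MonObj.mul_comp] at h4
    rw [h4]
    have h5 : lift (lift w (m' ≫ u) ≫ r) (m'⁻¹ ≫ u) ≫ r = lift w (m'⁻¹ ≫ u) ≫ r := by rw [h2]
    rw [hr.act_mul, ← MonObj.mul_comp, mul_inv_cancel, MonObj.one_comp, hr.act_one] at h5
    exact h5.symm
  rw [← hlift] at h3
  have h6 : pts k K C ((x * m'⁻¹) ≫ p) = b := by
    rw [MonObj.mul_comp, GrpObj.inv_comp, map_mul, map_inv, h1, hxm, mul_inv_cancel_right]
  -- `b` comes from `H`
  obtain ⟨χ, hχ⟩ : ∃ χ : H →ₐ[k] K, χ.comp (π : C →ₐ[k] H) = specPreimage k ((x * m'⁻¹) ≫ p) := by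
    have hπ' : Function.Surjective (π : C →ₐ[k] H) := hπ
    have hk : ∀ a ∈ RingHom.ker (π : C →ₐ[k] H), specPreimage k ((x * m'⁻¹) ≫ p) a = 0 := by
      intro a ha
      rw [← pts_apply, h6]
      exact hb a ha
    refine ⟨(Ideal.Quotient.liftₐ (RingHom.ker (π : C →ₐ[k] H)) (specPreimage k ((x * m'⁻¹) ≫ p)) hk).comp
      (Ideal.quotientKerAlgEquivOfSurjective hπ').symm.toAlgHom, ?_⟩
    · ext a
      have h7 : (Ideal.quotientKerAlgEquivOfSurjective hπ').symm (π a) = Ideal.Quotient.mk _ a := by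
        rw [AlgEquiv.symm_apply_eq]
        rfl
      change (Ideal.Quotient.liftₐ (RingHom.ker (π : C →ₐ[k] H)) (specPreimage k ((x * m'⁻¹) ≫ p)) hk)
        ((Ideal.quotientKerAlgEquivOfSurjective hπ').symm (π a)) = _
      rw [h7]
      rfl
  refine ⟨specMap k χ, ?_⟩
  have h8 : specMap k χ ≫ specMap k (π : C →ₐ[k] H) = (x * m'⁻¹) ≫ p := by
    rw [← specMap_comp, hχ, specMap_specPreimage]
  rw [← Category.assoc, lift_whiskerLeft, h8]
  exact h3

end field

end Groth.Agent.Sga3.H830.Trans3
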